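/-
The points of Fi24 fixed by some products of two generators.
Main results: `fixed_all`, `fixed_omit_b`, `fixed_omit_c`.
-/
import Cfsg.Agent.Lib.FiTwentyFour.Table

set_option autoImplicit false
set_option maxRecDepth 100000
set_option Elab.async false

namespace Cfsg.Agent.FiTwentyFour

open Cert

/-- Points moved by a word, as seen on the first six planes. -/
noncomputable def movedWord (C : Cert) (w : List ℕ) : ℕ :=
  Nat.rec (motive := fun _ => ℕ) 0 (fun p ih => force ih fun acc => force (iota C.N C.m p) fun P =>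
    Nat.lor acc (Nat.xor (tr C.net w P) P)) 6

/-- The points fixed by all words. -/
noncomputable def fixWords (C : Cert) (ws : List (List ℕ)) : ℕ :=
  List.rec (motive := fun _ => ℕ) C.mask
    (fun w _ ih => force ih fun M => force (movedWord C w) fun A => Nat.xor M (Nat.land M A)) ws

theorem movedWord_fixed {C : Cert} (hp : C.Perms) {w : List ℕ} (hw : ∀ a ∈ w, a < C.k) {i : ℕ} (hi : i < C.N)
    (h : tw C.net w i = i) : (movedWord C w).testBit i = false := by
  have key : ∀ c, (Nat.rec (motive := fun _ => ℕ) 0 (fun p ih => force ih fun acc => force (iota C.N C.m p) fun P =>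
      Nat.lor acc (Nat.xor (tr C.net w P) P)) c : ℕ).testBit i = false := by
    intro c
    induction c with
    | zero => simp
    | succ c ih =>
      show (force _ fun acc => force (iota C.N C.m c) fun P => Nat.lor acc (Nat.xor (tr C.net w P) P)).testBit i = false
      rw [force_eq, force_eq]
      show ((_ : ℕ) ||| (tr C.net w (iota C.N C.m c) ^^^ iota C.N C.m c)).testBit i = false
      rw [Nat.testBit_or, ih, Nat.testBit_xor, (testBit_tr (N := C.N) w (fun a ha => hp.ok a (hw a ha)) _ i).1, h]
      simp
  exact key 6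

theorem fixWords_fixed {C : Cert} (hp : C.Perms) : ∀ (ws : List (List ℕ)), (∀ w ∈ ws, ∀ a ∈ w, a < C.k) →
    ∀ {i : ℕ}, i < C.n → (∀ w ∈ ws, tw C.net w i = i) → (fixWords C ws).testBit i = true
  | [], _, i, hi, _ => by
    show C.mask.testBit i = true
    rw [Cert.mask, testBit_mask]; simpa using hi
  | w :: ws, hw, i, hi, h => by
    show (force (fixWords C ws) fun M => force (movedWord C w) fun A => Nat.xor M (Nat.land M A)).testBit i = true
    rw [force_eq, force_eq]
    show (fixWords C ws ^^^ (fixWords C ws &&& movedWord C w)).testBit i = true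
    rw [Nat.testBit_xor, Nat.testBit_and,
      fixWords_fixed hp ws (fun v hv => hw v (List.mem_cons_of_mem _ hv)) hi (fun v hv => h v (List.mem_cons_of_mem _ hv)),
      movedWord_fixed hp (hw w List.mem_cons_self) (lt_of_lt_of_le hi hp.hnN) (h w List.mem_cons_self)]
    rfl

/-- Products of a generator with later ones. -/
def pairWords (a : ℕ) (l : List ℕ) : List (List ℕ) := l.map fun i => [a, i]

theorem fixed_all : Nat.beq (fixWords fi24c (pairWords 3 [4, 5, 6, 7, 8, 9, 10, 11])) 7 = true := by decide +kernel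

theorem fixed_omit_c : Nat.beq (fixWords fi24c (pairWords 3 [5, 6, 7, 8, 9, 10, 11])) 4103 = true := by decide +kernel

theorem fixed_omit_b : Nat.beq (fixWords fi24c (pairWords 4 [5, 6, 7, 8, 9, 10, 11])) 95 = true := by decide +kernel

/-- Letters on small points: the generators l and k. -/
theorem small_acts : (Nat.beq (fi24c.act 0 1) 2 && (Nat.beq (fi24c.act 0 2) 1 && (!Nat.beq (fi24c.act 0 3) 3 &&
    (!Nat.beq (fi24c.act 0 4) 4 && (Nat.beq (fi24c.act 0 6) 6 && (!Nat.beq (fi24c.act 1 0) 0 &&
    (!Nat.beq (fi24c.act 2 1) 1 && !Nat.beq (fi24c.act 2 2) 2))))))) = true := by decide +kernel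

theorem small_points : (Nat.beq (tw fi24c.net [1, 0] 0) 2 && (Nat.beq (tw fi24c.net [1, 0, 2, 1] 0) 6 &&
    (Nat.beq (tw fi24c.net [1, 0, 2, 1, 3, 2] 0) 12 && (Nat.beq (tw fi24c.net [1, 0, 1, 0] 0) 1 &&
    !Nat.beq (fi24c.act 1 6) 6)))) = true := by decide +kernel

end Cfsg.Agent.FiTwentyFour
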