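/-
Products of two commuting members in a group of type M(24).
Main results: `pair_support`, `commute_of_fix`, `share_or_four`, `class_ncard_ne`.
-/
import Cfsg.Agent.Lib.FischerM24.Involutions

set_option autoImplicit false

namespace Cfsg.Agent.FiTwentyFour

open Cfsg.Agent.ThreeTrans Cfsg.Agent.ThreeTransSU Cfsg.Agent.FischerM24
open Cfsg.Agent.FischerM22 (IsProd IsTriple isProd_two isProd_one)

variable {G : Type*} [Group G] {D : Set G}

/-- Counting dependent pairs. -/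
theorem ncard_dep {α β : Type*} [Finite α] [Finite β] (A : Set α) (B : α → Set β) (c : ℕ)
    (h : ∀ a ∈ A, (B a).ncard = c) : {p : α × β | p.1 ∈ A ∧ p.2 ∈ B p.1}.ncard = A.ncard * c := by
  classical
  haveI := Fintype.ofFinite α
  haveI := Fintype.ofFinite β
  have e : {p : α × β | p.1 ∈ A ∧ p.2 ∈ B p.1}.ncard = (A.toFinset.sigma fun a => (B a).toFinset).card := by
    rw [Set.ncard_eq_toFinset_card']
    refine Finset.card_bij' (fun p _ => ⟨p.1, p.2⟩) (fun p _ => (p.1, p.2)) ?_ ?_ ?_ ?_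
    · intro p hp; simpa using hp
    · intro p hp; simpa using hp
    · intro p _; rfl
    · intro p _; rfl
  rw [e, Finset.card_sigma, Finset.sum_eq_card_nsmul (b := c) (fun a ha => ?_), smul_eq_mul,
    Set.ncard_eq_toFinset_card']
  rw [← Set.ncard_eq_toFinset_card']
  exact h a (Set.mem_toFinset.1 ha)

/-- Counting by fibres of a fixed size. -/
theorem ncard_fibres {α β : Type*} [Finite α] [Finite β] (f : α → β) (T : Set α) (Y : Set β) (k : ℕ)
    (hf : ∀ x ∈ T, f x ∈ Y) (hk : ∀ y ∈ Y, {x ∈ T | f x = y}.ncard = k) : T.ncard = Y.ncard * k := by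
  classical
  haveI := Fintype.ofFinite α
  haveI := Fintype.ofFinite β
  rw [Set.ncard_eq_toFinset_card', Finset.card_eq_sum_card_fiberwise (f := f) (t := Y.toFinset)
    (fun x hx => by simpa using hf x (by simpa using hx)),
    Finset.sum_eq_card_nsmul (b := k) (fun y hy => ?_), smul_eq_mul, Set.ncard_eq_toFinset_card']
  rw [← hk y (Set.mem_toFinset.1 hy), Set.ncard_eq_toFinset_card']
  congr 1
  ext x
  simp

variable [Finite G]

omit [Finite G] in
theorem isProd_two_iff {x : G} : IsProd D 2 x ↔ ∃ a ∈ D, ∃ b ∈ adj D a, x = a * b := by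
  constructor
  · rintro ⟨l, hn, hlen, hD, hc, rfl⟩
    match l, hlen with
    | [a, b], _ =>
      simp only [List.nodup_cons, List.mem_cons, List.not_mem_nil, or_false, not_false_eq_true, List.nodup_nil,
        and_true] at hn
      exact ⟨a, hD a (by simp), b, ⟨hD b (by simp), fun e => hn e.symm, hc a (by simp) b (by simp)⟩, by simp⟩
  · rintro ⟨a, ha, b, hb, rfl⟩
    exact isProd_two ha hb

/-- The two members of a product are determined. -/
theorem pair_support (S : Fi24Setup D) {a b c d : G} (ha : a ∈ D) (hb : b ∈ adj D a) (hc : c ∈ D)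
    (hd : d ∈ adj D c) (e : a * b = c * d) : (c = a ∧ d = b) ∨ (c = b ∧ d = a) := by
  have hD := S.cls.1
  by_cases hca : c = a
  · subst hca
    exact Or.inl ⟨rfl, (mul_left_cancel e).symm⟩
  by_cases hcb : c = b
  · subst hcb
    refine Or.inr ⟨rfl, ?_⟩
    rw [hb.2.2.eq] at e
    exact (mul_left_cancel e).symm
  exfalso
  have hcc : Commute c (a * b) := by
    rw [e]; exact (Commute.refl c).mul_right hd.2.2
  obtain ⟨h1, h2⟩ := (commute_mul_iff hD ha hb.1 hc hb.2.1.symm hb.2.2).1 hcc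
  refine one_ne_three S hd.1 ⟨hc, ha, hb.1, hca, hcb, hb.2.1.symm, h1, h2, hb.2.2⟩ ?_
  rw [mul_assoc, e, ← mul_assoc, mul_self hD hc, one_mul]

/-- An element commuting with a product either fixes or swaps its members. -/
theorem fix_or_swap (S : Fi24Setup D) {p q g : G} (hp : p ∈ D) (hq : q ∈ adj D p) (h : Commute g (p * q)) :
    (g * p * g⁻¹ = p ∧ g * q * g⁻¹ = q) ∨ (g * p * g⁻¹ = q ∧ g * q * g⁻¹ = p) := by
  have hgq : g * q * g⁻¹ ∈ adj D (g * p * g⁻¹) := by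
    rw [adj_conj_image S.grp.2.1]; exact ⟨q, hq, rfl⟩
  refine pair_support S hp hq (S.conj_mem g hp) hgq ?_
  rw [show g * p * g⁻¹ * (g * q * g⁻¹) = g * (p * q) * g⁻¹ by group, h.eq, mul_inv_cancel_right]

/-- A product of two fixed by a member is fixed by both its members. -/
theorem commute_of_fix (S : Fi24Setup D) {p r s : G} (hp : p ∈ D) (hr : r ∈ D) (hs : s ∈ adj D r)
    (h : r * s * p * (r * s)⁻¹ = p) : Commute p r ∧ Commute p s :=
  (commute_mul_iff S.cls.1 hr hs.1 hp hs.2.1.symm hs.2.2).1 (mul_inv_eq_iff_eq_mul.1 h).symm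

/-- Two commuting products whose product is one of two share a member. -/
theorem share_member (S : Fi24Setup D) {p q r s : G} (hp : p ∈ D) (hq : q ∈ adj D p) (hr : r ∈ D) (hs : s ∈ adj D r)
    (c1 : Commute p r) (c2 : Commute p s) (c3 : Commute q r) (c4 : Commute q s)
    (h : IsProd D 2 (p * q * (r * s))) : p = r ∨ p = s ∨ q = r ∨ q = s := by
  by_contra hne
  simp only [not_or] at hne
  obtain ⟨n1, n2, n3, n4⟩ := hne
  have h4 : IsProd D 4 (p * q * (r * s)) := by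
    refine ⟨[p, q, r, s], ?_, rfl, ?_, ?_, by simp [mul_assoc]⟩
    · simp [hq.2.1.symm, n1, n2, n3, n4, hs.2.1.symm]
    · simp [hp, hq.1, hr, hs.1]
    · have := hq.2.2
      have := hs.2.2
      simp only [List.mem_cons, List.not_mem_nil, or_false]
      rintro a (rfl | rfl | rfl | rfl) b (rfl | rfl | rfl | rfl) <;>
        first | exact Commute.refl _ | assumption | exact Commute.symm ‹_›
  exact absurd (prod_unique S (by norm_num) le_rfl (by norm_num) (by norm_num) h4 h) (by norm_num)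

/-- The ordered quadruples of commuting members. -/
def quadT (D : Set G) : Set (G × G × G × G) :=
  {t | t.1 ∈ D ∧ t.2.1 ∈ adj D t.1 ∧ t.2.2.1 ∈ adj D t.1 ∩ adj D t.2.1 ∧
    t.2.2.2 ∈ adj D t.1 ∩ adj D t.2.1 ∩ adj D t.2.2.1}

omit [Finite G] in
theorem quadT_list {t : G × G × G × G} (h : t ∈ quadT D) :
    [t.1, t.2.1, t.2.2.1, t.2.2.2].Nodup ∧
      (∀ a ∈ [t.1, t.2.1, t.2.2.1, t.2.2.2], a ∈ D) ∧
      ∀ a ∈ [t.1, t.2.1, t.2.2.1, t.2.2.2], ∀ b ∈ [t.1, t.2.1, t.2.2.1, t.2.2.2], Commute a b := by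
  obtain ⟨a, b, c, d⟩ := t
  obtain ⟨ha, hb, ⟨hc1, hc2⟩, ⟨hd1, hd2⟩, hd3⟩ := h
  refine ⟨by simp [hb.2.1.symm, hc1.2.1.symm, hd1.2.1.symm, hc2.2.1.symm, hd2.2.1.symm, hd3.2.1.symm],
    by simp [ha, hb.1, hc1.1, hd1.1], ?_⟩
  have := hb.2.2
  have := hc1.2.2
  have := hc2.2.2
  have := hd1.2.2
  have := hd2.2.2
  have := hd3.2.2
  simp only [List.mem_cons, List.not_mem_nil, or_false]
  rintro x (rfl | rfl | rfl | rfl) y (rfl | rfl | rfl | rfl) <;>
    first | exact Commute.refl _ | assumption | exact Commute.symm ‹_›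

/-- The product of a quadruple. -/
def quadProd (t : G × G × G × G) : G := t.1 * (t.2.1 * (t.2.2.1 * t.2.2.2))

/-- The members of a quadruple. -/
noncomputable def quadSet (t : G × G × G × G) : Set G := {t.1, t.2.1, t.2.2.1, t.2.2.2}

theorem quadT_ncard (S : Fi24Setup D) : (quadT D).ncard = 306936 * (31671 * (3510 * 693)) := by
  rw [show quadT D = {p : G × G × G × G | p.1 ∈ D ∧ p.2 ∈ {t : G × G × G | t.1 ∈ adj D p.1 ∧
      t.2 ∈ {u : G × G | u.1 ∈ adj D p.1 ∩ adj D t.1 ∧ u.2 ∈ adj D p.1 ∩ adj D t.1 ∩ adj D u.1}}} from rfl]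
  rw [ncard_dep D (fun a => {t : G × G × G | t.1 ∈ adj D a ∧
      t.2 ∈ {u : G × G | u.1 ∈ adj D a ∩ adj D t.1 ∧ u.2 ∈ adj D a ∩ adj D t.1 ∩ adj D u.1}})
    (31671 * (3510 * 693)) fun a ha => ?_, class_ncard S]
  rw [ncard_dep (adj D a) (fun b => {u : G × G | u.1 ∈ adj D a ∩ adj D b ∧
      u.2 ∈ adj D a ∩ adj D b ∩ adj D u.1}) (3510 * 693) fun b hb => ?_, adj_ncard S ha]
  rw [ncard_dep (adj D a ∩ adj D b) (fun c => adj D a ∩ adj D b ∩ adj D c) 693 fun c hc => ?_,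
    common_ncard S ha hb]
  exact triple_ncard S ha hb hc.1 hc.2.2.1.symm hc.2.2.2

/-- Each set of four arises from 24 quadruples. -/
theorem quadSet_fibre {s : Set G} {t₀ : G × G × G × G} (h₀ : t₀ ∈ quadT D) (hs : quadSet t₀ = s) :
    {t ∈ quadT D | quadSet t = s}.ncard = 24 := by
  obtain ⟨hn, hmem, hcomm⟩ := quadT_list h₀
  have hcard : s.ncard = 4 := by
    rw [← hs, quadSet]
    simp only [List.nodup_cons, List.mem_cons, List.not_mem_nil, or_false, not_or, not_false_eq_true,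
      List.nodup_nil, and_true] at hn
    obtain ⟨⟨n1, n2, n3⟩, ⟨n4, n5⟩, n6⟩ := hn
    rw [Set.ncard_insert_of_notMem (by simp [n1, n2, n3]), Set.ncard_insert_of_notMem (by simp [n4, n5]),
      Set.ncard_pair n6]
  have hin : ∀ x ∈ s, x ∈ [t₀.1, t₀.2.1, t₀.2.2.1, t₀.2.2.2] := by
    intro x hx
    rw [← hs, quadSet] at hx
    simpa using hx
  have hadj : ∀ x ∈ s, ∀ y ∈ s, y ≠ x → y ∈ adj D x := fun x hx y hy hne =>
    ⟨hmem y (hin y hy), hne, hcomm x (hin x hx) y (hin y hy)⟩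
  have heq : {t ∈ quadT D | quadSet t = s} = {p : G × G × G × G | p.1 ∈ s ∧ p.2 ∈ {t : G × G × G |
      t.1 ∈ s \ {p.1} ∧ t.2 ∈ {u : G × G | u.1 ∈ (s \ {p.1}) \ {t.1} ∧
        u.2 ∈ ((s \ {p.1}) \ {t.1}) \ {u.1}}}} := by
    ext ⟨a, b, c, d⟩
    constructor
    · rintro ⟨h, e⟩
      obtain ⟨-, hb, ⟨hc1, hc2⟩, ⟨hd1, hd2⟩, hd3⟩ := h
      rw [← e]
      exact ⟨by simp [quadSet], ⟨by simp [quadSet], hb.2.1⟩, ⟨⟨by simp [quadSet], hc1.2.1⟩, hc2.2.1⟩,
        ⟨⟨by simp [quadSet], hd1.2.1⟩, hd2.2.1⟩, hd3.2.1⟩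
    · rintro ⟨ha, ⟨hb, hba⟩, ⟨⟨hc, hca⟩, hcb⟩, ⟨⟨hd, hda⟩, hdb⟩, hdc⟩
      refine ⟨⟨hmem a (hin a ha), hadj a ha b hb hba, ⟨hadj a ha c hc hca, hadj b hb c hc hcb⟩,
        ⟨hadj a ha d hd hda, hadj b hb d hd hdb⟩, hadj c hc d hd hdc⟩, ?_⟩
      refine Set.eq_of_subset_of_ncard_le ?_ ?_ (Set.toFinite s)
      · intro x hx
        simp only [quadSet, Set.mem_insert_iff, Set.mem_singleton_iff] at hx
        rcases hx with rfl | rfl | rfl | rfl <;> assumption
      · rw [hcard, quadSet, Set.ncard_insert_of_notMem (by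
            simp only [Set.mem_insert_iff, Set.mem_singleton_iff, not_or]
            exact ⟨fun e => hba e.symm, fun e => hca e.symm, fun e => hda e.symm⟩),
          Set.ncard_insert_of_notMem (by
            simp only [Set.mem_insert_iff, Set.mem_singleton_iff, not_or]
            exact ⟨fun e => hcb e.symm, fun e => hdb e.symm⟩),
          Set.ncard_pair (fun e : c = d => hdc e.symm)]
  rw [heq, ncard_dep s (fun a => {t : G × G × G | t.1 ∈ s \ {a} ∧ t.2 ∈ {u : G × G | u.1 ∈ (s \ {a}) \ {t.1} ∧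
      u.2 ∈ ((s \ {a}) \ {t.1}) \ {u.1}}}) (3 * (2 * 1)) fun a ha => ?_, hcard]
  rw [ncard_dep (s \ {a}) (fun b => {u : G × G | u.1 ∈ (s \ {a}) \ {b} ∧ u.2 ∈ ((s \ {a}) \ {b}) \ {u.1}}) (2 * 1)
    fun b hb => ?_, Set.ncard_diff_singleton_of_mem ha, hcard]
  rw [ncard_dep ((s \ {a}) \ {b}) (fun c => ((s \ {a}) \ {b}) \ {c}) 1 fun c hc => ?_,
    Set.ncard_diff_singleton_of_mem hb, Set.ncard_diff_singleton_of_mem ha, hcard]
  rw [Set.ncard_diff_singleton_of_mem hc, Set.ncard_diff_singleton_of_mem hb, Set.ncard_diff_singleton_of_mem ha,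
    hcard]

omit [Finite G] in
theorem quadSet_prod {t t' : G × G × G × G} (h : t ∈ quadT D) (h' : t' ∈ quadT D) (e : quadSet t = quadSet t') :
    quadProd t = quadProd t' := by
  obtain ⟨hn, -, hc⟩ := quadT_list h
  obtain ⟨hn', -, -⟩ := quadT_list h'
  have hperm : [t.1, t.2.1, t.2.2.1, t.2.2.2].Perm [t'.1, t'.2.1, t'.2.2.1, t'.2.2.2] := by
    rw [List.perm_ext_iff_of_nodup hn hn']
    intro x
    have := Set.ext_iff.1 e x
    simpa [quadSet] using this
  have := hperm.prod_eq' (List.pairwise_of_forall_mem_list hc)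
  simpa [quadProd, mul_assoc] using this

/-- The classes of products of two and of four have different sizes. -/
theorem class_ncard_ne (S : Fi24Setup D) : {x | IsProd D 4 x}.ncard ≠ {x | IsProd D 2 x}.ncard := by
  have h2 : {p : G × G | p.1 ∈ D ∧ p.2 ∈ adj D p.1}.ncard = {x | IsProd D 2 x}.ncard * 2 := by
    refine ncard_fibres (fun p => p.1 * p.2) _ _ 2 (fun p hp => isProd_two hp.1 hp.2) fun y hy => ?_
    obtain ⟨a, ha, b, hb, rfl⟩ := isProd_two_iff.1 hy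
    have : {x ∈ {p : G × G | p.1 ∈ D ∧ p.2 ∈ adj D p.1} | x.1 * x.2 = a * b} = {(a, b), (b, a)} := by
      ext ⟨c, d⟩
      constructor
      · rintro ⟨⟨hc, hd⟩, e⟩
        rcases pair_support S ha hb hc hd (e : c * d = a * b).symm with ⟨rfl, rfl⟩ | ⟨rfl, rfl⟩
        · exact Or.inl rfl
        · exact Or.inr rfl
      · rintro (e | e) <;> simp only [Prod.mk.injEq, Set.mem_singleton_iff] at e <;> obtain ⟨rfl, rfl⟩ := e
        · exact ⟨⟨ha, hb⟩, rfl⟩
        · exact ⟨⟨hb.1, ha, hb.2.1.symm, hb.2.2.symm⟩, hb.2.2.eq.symm⟩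
    rw [this, Set.ncard_pair fun e => hb.2.1 (congrArg Prod.snd e)]
  rw [ncard_dep D (fun a => adj D a) 31671 fun a ha => adj_ncard S ha, class_ncard S] at h2
  obtain ⟨y₀, hy₀⟩ := exists_isProd S (m := 4) (by norm_num) le_rfl
  set fib : G → Set (G × G × G × G) := fun y => {t ∈ quadT D | quadProd t = y} with hfib
  have hconst : ∀ y, IsProd D 4 y → (fib y).ncard = (fib y₀).ncard := by
    intro y hy
    obtain ⟨g, rfl⟩ := isConj_iff.1 (prod_conj S (by norm_num) le_rfl hy₀ hy)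
    let c : G × G × G × G → G × G × G × G := fun t =>
      (g * t.1 * g⁻¹, g * t.2.1 * g⁻¹, g * t.2.2.1 * g⁻¹, g * t.2.2.2 * g⁻¹)
    have mv : ∀ (u : G) {a b}, b ∈ adj D a → u * b * u⁻¹ ∈ adj D (u * a * u⁻¹) := fun u {a b} hb => by
      rw [adj_conj_image S.grp.2.1]; exact ⟨b, hb, rfl⟩
    have hinj : Function.Injective c := by
      rintro ⟨a, b, c', d⟩ ⟨a', b', c'', d'⟩ e
      simp only [c, Prod.mk.injEq, mul_left_inj, mul_right_inj] at e
      simp [e]
    have himg : fib (g * y₀ * g⁻¹) = c '' fib y₀ := by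
      ext t
      constructor
      · rintro ⟨⟨h1, h2, ⟨h3, h3'⟩, ⟨h4, h4'⟩, h4''⟩, e⟩
        refine ⟨(g⁻¹ * t.1 * g, g⁻¹ * t.2.1 * g, g⁻¹ * t.2.2.1 * g, g⁻¹ * t.2.2.2 * g), ⟨?_, ?_⟩, ?_⟩
        · have m : ∀ {a b}, b ∈ adj D a → g⁻¹ * b * g ∈ adj D (g⁻¹ * a * g) := fun {a b} hb => by
            simpa using mv g⁻¹ hb
          exact ⟨by simpa using S.conj_mem g⁻¹ h1, m h2, ⟨m h3, m h3'⟩, ⟨m h4, m h4'⟩, m h4''⟩
        · show g⁻¹ * t.1 * g * (g⁻¹ * t.2.1 * g * (g⁻¹ * t.2.2.1 * g * (g⁻¹ * t.2.2.2 * g))) = y₀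
          rw [show y₀ = g⁻¹ * quadProd t * g by rw [e]; group, quadProd]
          group
        · simp only [c]
          refine Prod.ext ?_ (Prod.ext ?_ (Prod.ext ?_ ?_)) <;> group
      · rintro ⟨u, ⟨⟨h1, h2, ⟨h3, h3'⟩, ⟨h4, h4'⟩, h4''⟩, e⟩, rfl⟩
        refine ⟨⟨S.conj_mem g h1, mv g h2, ⟨mv g h3, mv g h3'⟩, ⟨mv g h4, mv g h4'⟩, mv g h4''⟩, ?_⟩
        show g * u.1 * g⁻¹ * (g * u.2.1 * g⁻¹ * (g * u.2.2.1 * g⁻¹ * (g * u.2.2.2 * g⁻¹))) = _
        rw [← e, quadProd]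
        group
    rw [himg, Set.ncard_image_of_injective _ hinj]
  have h4 : (quadT D).ncard = {x | IsProd D 4 x}.ncard * (fib y₀).ncard := by
    refine ncard_fibres quadProd _ _ _ (fun t ht => ?_) fun y hy => hconst y hy
    obtain ⟨hn, hm, hc⟩ := quadT_list ht
    exact ⟨_, hn, rfl, hm, hc, by simp [quadProd]⟩
  have h24 : (fib y₀).ncard = (quadSet '' fib y₀).ncard * 24 := by
    refine ncard_fibres quadSet _ _ 24 (fun t ht => ⟨t, ht, rfl⟩) ?_
    rintro s ⟨t₀, ht₀, rfl⟩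
    rw [← quadSet_fibre ht₀.1 rfl]
    congr 1
    ext t
    exact ⟨fun h => ⟨h.1.1, h.2⟩, fun h => ⟨⟨h.1, (quadSet_prod h.1 ht₀.1 h.2).trans ht₀.2⟩, h.2⟩⟩
  intro he
  rw [quadT_ncard S, he, h24] at h4
  generalize {x | IsProd D 2 x}.ncard = c at h2 h4
  generalize (quadSet '' fib y₀).ncard = k at h4
  have hc : c = 4860485028 := by omega
  subst hc
  omega

end Cfsg.Agent.FiTwentyFour
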