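/-
The presented group Fi24 on the cosets of the double of Fi23: orbits of the point stabiliser, order, sign.
Main results: `act24`, `hsub_eq`, `card_G24`, `sign24`, `commutator_eq_ker`.
-/
import Cfsg.Agent.Lib.FiTwentyFour.Spider
import Cfsg.Agent.Lib.FischerExist.TableM24
import Cfsg.Agent.Lib.FischerExist.ChecksM24Table

set_option autoImplicit false
set_option maxRecDepth 10000

namespace Cfsg.Agent.FiTwentyFour

open Cfsg.Agent.FischerExist (Act24 Gen24 hsub ix ix_range exists_ix farG nearG OrbitCert orbit24_0 orbit24_1 orb24_0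
  orb24_1 cover24 coverOK24)

/-- The base point. -/
abbrev p24 : Fin fi24c.n := ⟨0, perms24.hn⟩

theorem lab_ix24 (x y : Cfsg.Spor.Fi23.Gen) :
    Cfsg.Spor.coxLabel Cfsg.Spor.Fi23.edges x y = lab24 (ix x) (ix y) := by
  cases x <;> cases y <;> decide +kernel

theorem rho24_val {a : ℕ} (ha : a < 12) (i : Fin fi24c.n) : (rho24 (x24 a) i : ℕ) = fi24c.act a i := by
  rw [rho24_x24 ha, Cert.sigma_apply perms24 ha]

theorem rho24_word : ∀ (w : List ℕ), (∀ a ∈ w, a < 12) → ∀ i : Fin fi24c.n,
    (rho24 (ev x24 w) i : ℕ) = tw fi24c.net w i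
  | [], _, i => by show (rho24 1 i : ℕ) = _; rw [map_one]; rfl
  | a :: v, hw, i => by
    show (rho24 (ev x24 v * x24 a) i : ℕ) = _
    rw [map_mul, Equiv.Perm.mul_apply, rho24_word v (fun b hb => hw b (List.mem_cons_of_mem a hb)),
      rho24_val (hw a List.mem_cons_self), tw_cons]
    rfl

theorem rho24_moves {a i j : ℕ} (ha : a < 12) (hi : i < fi24c.n) (h : Nat.beq (fi24c.act a i) j = true)
    (hne : i ≠ j) : x24 a ≠ 1 := fun e => by
  have := rho24_val ha ⟨i, hi⟩
  rw [e, map_one, Nat.eq_of_beq_eq_true h] at this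
  exact hne this

theorem act_two : Nat.beq (fi24c.act 2 2) 4 = true := by decide +kernel

theorem act_zero : Nat.beq (fi24c.act 0 2) 1 = true := by decide +kernel

theorem gen24_x : Gen24 x24 where
  cox x y := by rw [lab_ix24]; exact x24_pow (ix_range x).2 (ix_range y).2
  comm a h2 h12 := by
    have hlab : lab24 0 a = 2 := by interval_cases a <;> decide
    exact x24_comm (by norm_num) h12 hlab
  sq := x24_sq (by norm_num)
  e7 := x24_seven.symm
  spider := by
    have h := spider24
    rw [relSpider_eq, ev_flatten_replicate] at h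
    simpa [ev, mul_assoc] using h
  ne := by
    refine ⟨rho24_moves (by norm_num) (show 2 < 306936 by norm_num) act_two (by norm_num), fun e => ?_⟩
    have h1 := rho24_val (show 2 < 12 by norm_num) ⟨2, show 2 < 306936 by norm_num⟩
    have h2 := rho24_val (show 0 < 12 by norm_num) ⟨2, show 2 < 306936 by norm_num⟩
    rw [Nat.eq_of_beq_eq_true act_two] at h1
    rw [Nat.eq_of_beq_eq_true act_zero] at h2
    rw [e, h2] at h1
    exact absurd h1 (by norm_num)

theorem hsub_eq : hsub x24 = H24 := by
  refine le_antisymm ((Subgroup.closure_le _).2 ?_) ?_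
  · rintro _ ⟨a, ⟨h2, ha⟩, rfl⟩
    exact x24_mem ha (by omega)
  · rw [H24_eq, Subgroup.closure_le]
    rintro _ ⟨a, ha, h1, rfl⟩
    rcases Nat.lt_or_ge a 2 with h | h
    · rw [show a = 0 by omega]; exact gen24_x.first_mem
    · exact Gen24.el_mem h ha

theorem stab24 (g : G24) : rho24 g p24 = p24 ↔ g ∈ hsub x24 := by
  rw [hsub_eq]
  refine ⟨fun hg => ?_, rho24_H24 g⟩
  obtain ⟨e, he0, he⟩ := equiv24 spiderFixes
  have h := he g p24
  rw [hg, he0] at h
  have h2 : ((g * 1 : G24) : G24 ⧸ H24) = ((1 : G24) : G24 ⧸ H24) := h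
  simpa [QuotientGroup.eq] using h2

theorem trans24 (i : Fin fi24c.n) : ∃ g, rho24 g p24 = i := by
  obtain ⟨e, he0, he⟩ := equiv24 spiderFixes
  obtain ⟨g, hg⟩ := QuotientGroup.mk_surjective (e i)
  refine ⟨g, e.injective ?_⟩
  rw [← he, he0, ← hg]
  show ((g * 1 : G24) : G24 ⧸ H24) = _
  rw [mul_one]

theorem gens24 : Subgroup.closure (x24 '' {a | a < 12}) = ⊤ := by
  rw [← closure_x24]
  rfl

/-- The points reached from a root by the stabiliser. -/
theorem orbit_reach24 {O : OrbitCert} {w : List ℕ} (hw : ∀ a ∈ w, a < 12) (hO : O.ok fi24c w = true)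
    (i : Fin fi24c.n) (hi : (i : ℕ) = O.root ∨ O.M.testBit i = true) :
    ∃ h ∈ hsub x24, rho24 h (rho24 (ev x24 w) p24) = i := by
  simp only [OrbitCert.ok, Bool.and_eq_true, nbeq_iff] at hO
  obtain ⟨htree, h0, h1, hroot⟩ := hO
  have hr : (rho24 (ev x24 w) p24 : ℕ) = O.root := (rho24_word w hw p24).trans hroot
  rcases hi with hi | hi
  · exact ⟨1, one_mem _, by rw [map_one]; exact Fin.ext (hr.trans hi.symm)⟩
  refine Cert.tree_induction perms24 (Cert.tree_spec perms24 htree) (P := fun j => ∀ i : Fin fi24c.n, (i : ℕ) = j →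
    ∃ h ∈ hsub x24, rho24 h (rho24 (ev x24 w) p24) = i)
    (fun i hi => ⟨1, one_mem _, by rw [map_one]; exact Fin.ext (hr.trans hi.symm)⟩) ?_ i hi i rfl
  intro a ha hne j hj hP i' hi'
  have h2 : 2 ≤ a := by
    by_contra hlt
    interval_cases a
    exacts [hne h0, hne h1]
  have ha' : a < 12 := ha
  obtain ⟨h, hh, he⟩ := hP ⟨j, hj⟩ rfl
  refine ⟨x24 a * h, mul_mem (Gen24.el_mem h2 ha') hh, Fin.ext ?_⟩
  rw [map_mul, Equiv.Perm.mul_apply, he, rho24_val ha', hi']

theorem word_far : ev x24 [1, 0] = farG x24 := by simp [ev, farG]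

theorem word_near : ev x24 [1, 0, 2, 1] = nearG x24 := by simp [ev, nearG, mul_assoc]

theorem cover (i : Fin fi24c.n) : i = p24 ∨
    ∃ h ∈ hsub x24, rho24 h (rho24 (farG x24) p24) = i ∨ rho24 h (rho24 (nearG x24) p24) = i := by
  have hcov : Nat.lor (Nat.lor 1 (Nat.shiftLeft 1 orbit24_0.root))
      (Nat.lor (Nat.shiftLeft 1 orbit24_1.root) (Nat.lor orbit24_0.M orbit24_1.M)) = fi24c.mask :=
    Nat.eq_of_beq_eq_true cover24
  have hb := congrArg (fun x => x.testBit (i : ℕ)) hcov
  simp only [Cert.mask, testBit_mask, i.2, decide_true] at hb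
  change ((1 ||| 1 <<< orbit24_0.root) |||
    (1 <<< orbit24_1.root ||| (orbit24_0.M ||| orbit24_1.M))).testBit i = true at hb
  simp only [Nat.testBit_or, Bool.or_eq_true, Nat.one_shiftLeft, Nat.testBit_two_pow, decide_eq_true_eq] at hb
  have far := orbit_reach24 (O := orbit24_0) (w := [1, 0]) (by simp) orb24_0 i
  have near := orbit_reach24 (O := orbit24_1) (w := [1, 0, 2, 1]) (by simp) orb24_1 i
  rw [word_far] at far
  rw [word_near] at near
  rcases hb with (h | h) | h | h | h
  · refine Or.inl (Fin.ext ?_)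
    by_contra hne
    exact absurd h (by simp [Nat.testBit_lt_two_pow (Nat.one_lt_two_pow hne)])
  all_goals right
  · obtain ⟨g, hg, e⟩ := far (Or.inl h.symm); exact ⟨g, hg, Or.inl e⟩
  · obtain ⟨g, hg, e⟩ := near (Or.inl h.symm); exact ⟨g, hg, Or.inr e⟩
  · obtain ⟨g, hg, e⟩ := far (Or.inr h); exact ⟨g, hg, Or.inl e⟩
  · obtain ⟨g, hg, e⟩ := near (Or.inr h); exact ⟨g, hg, Or.inr e⟩

theorem act_far : Nat.beq (fi24c.act 0 (tw fi24c.net [1, 0] 0)) (tw fi24c.net [1, 0] 0) = false := by decide +kernel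

/-- The action with its facts. -/
theorem act24 : Act24 x24 rho24 p24 where
  rel := gen24_x
  sq1 := x24_sq (by norm_num)
  b01 := x24_pow (a := 0) (b := 1) (by norm_num) (by norm_num)
  b12 := x24_pow (a := 1) (b := 2) (by norm_num) (by norm_num)
  nc := fun hc => by
    have hf : rho24 (x24 0) (rho24 (farG x24) p24) = rho24 (farG x24) p24 := by
      have hfix : rho24 (x24 0) p24 = p24 := (stab24 _).2 gen24_x.first_mem
      rw [← Equiv.Perm.mul_apply, ← map_mul,
        show x24 0 * farG x24 = farG x24 * x24 0 by rw [farG, mul_assoc, hc.eq], map_mul,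
        Equiv.Perm.mul_apply, hfix]
    have hv : (rho24 (farG x24) p24 : ℕ) = tw fi24c.net [1, 0] 0 := by
      rw [← word_far]; exact rho24_word [1, 0] (by simp) p24
    have := congrArg Fin.val hf
    rw [rho24_val (by norm_num), hv] at this
    exact absurd (Nat.beq_eq.symm ▸ this : Nat.beq (fi24c.act 0 (tw fi24c.net [1, 0] 0)) (tw fi24c.net [1, 0] 0) = true)
      (by rw [act_far]; exact Bool.false_ne_true)
  gens := gens24
  stab := stab24
  trans := trans24
  cover := cover

/-- The order of the stabiliser. -/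
theorem card_hsub : Nat.card ↥(hsub x24) = 2 * 4089470473293004800 := by
  have R := gen24_x
  rw [← Subgroup.card_mul_index R.toFi23.ker, Subgroup.index_ker, MonoidHom.range_eq_top.mpr R.toFi23_surj,
    Subgroup.card_top, R.toFi23_ker_zsub,
    Gen24.zsub, Nat.card_zpowers, orderOf_eq_prime (p := 2) (x := R.first) (by rw [pow_two]; exact Subtype.ext R.sq)
      (fun h => act24.nc (by rw [show x24 0 = 1 from congrArg Subtype.val h]; exact Commute.one_left _))]
  congr 1
  exact S1697.main.2

/-- The order of the group. -/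
theorem card_G24 : Nat.card G24 = 2 * 1255205709190661721292800 := by
  rw [← Subgroup.card_mul_index H24, ← hsub_eq, card_hsub, hsub_eq, index24']

theorem finite_G24 : Finite G24 := Nat.finite_of_card_ne_zero (by rw [card_G24]; norm_num)

theorem sign_rels : ∀ r ∈ Cfsg.Spor.coxRelators Cfsg.Spor.Fi24.edges ∪ {r | r ∈ Cfsg.Spor.Fi24.extra},
    FreeGroup.lift (fun _ : Cfsg.Spor.Fi24.Gen => (-1 : ℤˣ)) r = 1 := by
  rintro r (⟨x, -, y, -, rfl⟩ | hr)
  · simp
  · have hr' : r ∈ Cfsg.Spor.Fi24.extra := hr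
    simp only [Cfsg.Spor.Fi24.extra, List.mem_cons, List.not_mem_nil, or_false] at hr'
    rcases hr' with rfl | rfl
    · simp only [map_mul, map_inv, map_pow, FreeGroup.lift_apply_of]; decide
    · simp only [map_mul, map_pow, FreeGroup.lift_apply_of]; decide

/-- The sign. -/
noncomputable def sign24 : G24 →* ℤˣ := PresentedGroup.toGroup sign_rels

theorem sign24_x (a : ℕ) : sign24 (x24 a) = -1 := PresentedGroup.toGroup.of sign_rels

theorem pair_mem {a b : ℕ} : x24 a * x24 b ∈ sign24.ker := by
  rw [MonoidHom.mem_ker, map_mul, sign24_x, sign24_x]; rfl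

theorem commutator_eq_ker : commutator G24 = sign24.ker := by
  refine le_antisymm ?_ fun g hg => ?_
  · exact Abelianization.commutator_subset_ker sign24
  · have key : ∀ a < 12, Abelianization.of (x24 a) = Abelianization.of (x24 0) := by
      intro a ha
      obtain ⟨u, hu⟩ := isConj_iff.1 (show IsConj (x24 0) (x24 a) from act24.el_class ha)
      rw [← hu, map_mul, map_mul, map_inv, mul_right_comm, mul_inv_cancel, one_mul]
    have hsq : Abelianization.of (x24 0) * Abelianization.of (x24 0) = 1 := by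
      rw [← map_mul, x24_sq (show 0 < 12 by norm_num), map_one]
    have main : ∀ g : G24, (sign24 g = 1 ∧ Abelianization.of g = 1) ∨
        (sign24 g = -1 ∧ Abelianization.of g = Abelianization.of (x24 0)) := by
      intro g
      have hg : g ∈ Subgroup.closure (x24 '' {a | a < 12}) := by rw [gens24]; trivial
      induction hg using Subgroup.closure_induction with
      | mem x hx => obtain ⟨a, ha, rfl⟩ := hx; exact Or.inr ⟨sign24_x a, key a ha⟩
      | one => exact Or.inl ⟨map_one _, map_one _⟩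
      | mul x y _ _ hx hy =>
        rcases hx with ⟨hx, hx'⟩ | ⟨hx, hx'⟩ <;> rcases hy with ⟨hy, hy'⟩ | ⟨hy, hy'⟩
        all_goals simp only [map_mul, hx, hx', hy, hy', hsq, one_mul, mul_one, and_self, true_or, or_true, neg_mul,
          mul_neg, neg_neg, eq_self_iff_true]
      | inv x _ hx =>
        rcases hx with ⟨hx, hx'⟩ | ⟨hx, hx'⟩
        · exact Or.inl ⟨by rw [map_inv, hx, inv_one], by rw [map_inv, hx', inv_one]⟩
        · exact Or.inr ⟨by rw [map_inv, hx]; decide, by rw [map_inv, hx']; exact inv_eq_of_mul_eq_one_right hsq⟩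
    rcases main g with ⟨-, h⟩ | ⟨h, -⟩
    · exact (QuotientGroup.eq_one_iff g).1 h
    · exact absurd (h.symm.trans hg) (by decide)

/-- The order of the commutator subgroup. -/
theorem card_commutator : Nat.card ↥(commutator G24) = 1255205709190661721292800 := by
  have hsurj : Function.Surjective sign24 := by
    intro u
    rcases Int.units_eq_one_or u with h | h
    · exact ⟨1, by rw [h, map_one]⟩
    · exact ⟨x24 0, by rw [h, sign24_x]⟩
  have hidx : sign24.ker.index = 2 := by
    rw [Subgroup.index_ker, MonoidHom.range_eq_top.mpr hsurj, Subgroup.card_top, Nat.card_eq_fintype_card,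
      Fintype.card_units_int]
  have h := Subgroup.card_mul_index sign24.ker
  rw [hidx, card_G24] at h
  rw [commutator_eq_ker]
  generalize Nat.card ↥sign24.ker = c at h ⊢
  omega

end Cfsg.Agent.FiTwentyFour
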