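/-
The commutator subgroup of the presented Fi24 is simple.
Main results: `even_le_of_moves`, `simple_commutator`.
-/
import Cfsg.Agent.Lib.FiTwentyFour.Group

set_option autoImplicit false
set_option maxRecDepth 10000

namespace Cfsg.Agent.FiTwentyFour

open Cfsg.Agent.FischerExist (Gen24 hsub farG nearG)

/-- The group. -/
abbrev C24 : Subgroup G24 := commutator G24

theorem mem_C24 {g : G24} : g ∈ C24 ↔ sign24 g = 1 := by
  rw [C24, commutator_eq_ker]; exact MonoidHom.mem_ker

theorem sign24_cases (g : G24) : sign24 g = 1 ∨ sign24 g = -1 := Int.units_eq_one_or _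

/-- The copy of Fi23. -/
def H23 : Subgroup G24 := hsub x24 ⊓ C24

theorem mem_H23 {g : G24} : g ∈ H23 ↔ g ∈ hsub x24 ∧ sign24 g = 1 := by
  rw [H23, Subgroup.mem_inf, mem_C24]

theorem x24_mem_hsub {a : ℕ} (ha : a < 12) (h1 : a ≠ 1) : x24 a ∈ hsub x24 := by
  rcases Nat.lt_or_ge a 2 with h | h
  · rw [show a = 0 by omega]; exact gen24_x.first_mem
  · exact Gen24.el_mem h ha

theorem pair_mem_H23 {a b : ℕ} (ha : a < 12) (hb : b < 12) (ha1 : a ≠ 1) (hb1 : b ≠ 1) :
    x24 a * x24 b ∈ H23 :=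
  mem_H23.2 ⟨mul_mem (x24_mem_hsub ha ha1) (x24_mem_hsub hb hb1), MonoidHom.mem_ker.1 pair_mem⟩

theorem x24_inv {a : ℕ} (ha : a < 12) : (x24 a)⁻¹ = x24 a := inv_eq_of_mul_eq_one_right (x24_sq ha)

/-- A conjugate of the first generator commutes exactly with the elements fixing its point. -/
theorem fix_of_commute {g u : G24} (h : g * (u * x24 0 * u⁻¹) = u * x24 0 * u⁻¹ * g) :
    rho24 g (rho24 u p24) = rho24 u p24 := by
  have h' : u⁻¹ * g * u * x24 0 = x24 0 * (u⁻¹ * g * u) := by
    calc u⁻¹ * g * u * x24 0 = u⁻¹ * (g * (u * x24 0 * u⁻¹)) * u := by group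
      _ = u⁻¹ * (u * x24 0 * u⁻¹ * g) * u := by rw [h]
      _ = _ := by group
  have := (act24.stab_iff_commute _).2 h'
  rw [map_mul, map_mul, map_inv, Equiv.Perm.mul_apply, Equiv.Perm.mul_apply] at this
  have e := congrArg (rho24 u) this
  rwa [← Equiv.Perm.mul_apply, mul_inv_cancel, Equiv.Perm.one_apply] at e

theorem fix_far : rho24 (x24 3) (rho24 (farG x24) p24) = rho24 (farG x24) p24 := by
  refine fix_of_commute ?_
  rw [act24.far_conj]
  exact (x24_comm (by norm_num) (by norm_num) (by decide)).eq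

theorem fix_near : rho24 (x24 2) (rho24 (nearG x24) p24) = rho24 (nearG x24) p24 := by
  refine fix_of_commute ?_
  rw [act24.near_conj]

/-- A subgroup with Fi23 and a moved element contains the even elements. -/
theorem even_le_of_moves {P : Subgroup G24} (hP : H23 ≤ P) {g : G24} (hg : g ∈ P) (hs : sign24 g = 1)
    (hmove : rho24 g p24 ≠ p24) : C24 ≤ P := by
  obtain ⟨g', hg', hs', t, ht, he⟩ : ∃ g' ∈ P, sign24 g' = 1 ∧ ∃ t, (t = 1 ∨ t = 2) ∧
      g' * x24 0 * g'⁻¹ = x24 t := by
    rcases act24.cases g with h | ⟨h, hh, e | e⟩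
    · exact absurd h.1 hmove
    · obtain ⟨h', hh', e'⟩ : ∃ h' ∈ H23, g * x24 0 * g⁻¹ = h' * x24 1 * h'⁻¹ := by
        rcases sign24_cases h with hp | hn
        · exact ⟨h, mem_H23.2 ⟨hh, hp⟩, e⟩
        · refine ⟨h * x24 3, mem_H23.2 ⟨mul_mem hh (x24_mem_hsub (by norm_num) (by norm_num)),
            by rw [map_mul, hn, sign24_x]; decide⟩, ?_⟩
          have hc : Commute (x24 3) (x24 1) := x24_comm (by norm_num) (by norm_num) (by decide)
          calc g * x24 0 * g⁻¹ = h * x24 1 * h⁻¹ := e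
            _ = h * (x24 3 * x24 1 * (x24 3)⁻¹) * h⁻¹ := by rw [hc.eq, mul_inv_cancel_right]
            _ = _ := by group
      refine ⟨h'⁻¹ * g, mul_mem (inv_mem (hP hh')) hg, by rw [map_mul, map_inv, (mem_H23.1 hh').2, hs]; simp, 1,
        Or.inl rfl, ?_⟩
      calc h'⁻¹ * g * x24 0 * (h'⁻¹ * g)⁻¹ = h'⁻¹ * (g * x24 0 * g⁻¹) * h' := by group
        _ = _ := by rw [e']; group
    · obtain ⟨h', hh', e'⟩ : ∃ h' ∈ H23, g * x24 0 * g⁻¹ = h' * x24 2 * h'⁻¹ := by
        rcases sign24_cases h with hp | hn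
        · exact ⟨h, mem_H23.2 ⟨hh, hp⟩, e⟩
        · refine ⟨h * x24 2, mem_H23.2 ⟨mul_mem hh (x24_mem_hsub (by norm_num) (by norm_num)),
            by rw [map_mul, hn, sign24_x]; decide⟩, ?_⟩
          rw [e]; group
      refine ⟨h'⁻¹ * g, mul_mem (inv_mem (hP hh')) hg, by rw [map_mul, map_inv, (mem_H23.1 hh').2, hs]; simp, 2,
        Or.inr rfl, ?_⟩
      calc h'⁻¹ * g * x24 0 * (h'⁻¹ * g)⁻¹ = h'⁻¹ * (g * x24 0 * g⁻¹) * h' := by group
        _ = _ := by rw [e']; group
  -- the even centraliser of the moved generator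
  have hcent : ∀ z, sign24 z = 1 → Commute z (x24 t) → z ∈ P := by
    intro z hz hc
    have hin : g'⁻¹ * z * g' ∈ H23 := by
      refine mem_H23.2 ⟨(act24.stab _).1 ((act24.stab_iff_commute _).2 ?_), by
        rw [map_mul, map_mul, map_inv, hs', hz]; simp⟩
      have h1 : g' * x24 0 * g'⁻¹ * z = z * (g' * x24 0 * g'⁻¹) := by rw [he]; exact hc.eq.symm
      calc g'⁻¹ * z * g' * x24 0 = g'⁻¹ * (z * (g' * x24 0 * g'⁻¹)) * g' := by group
        _ = g'⁻¹ * (g' * x24 0 * g'⁻¹ * z) * g' := by rw [h1]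
        _ = _ := by group
    have := mul_mem (mul_mem hg' (hP hin)) (inv_mem hg')
    rwa [show g' * (g'⁻¹ * z * g') * g'⁻¹ = z by group] at this
  have h13 : x24 1 * x24 3 ∈ P := by
    rcases ht with rfl | rfl
    · exact hcent _ (MonoidHom.mem_ker.1 pair_mem)
        ((Commute.refl _).mul_left (x24_comm (by norm_num) (by norm_num) (by decide)))
    · set u := x24 3 * x24 2 * x24 1 * x24 2 * x24 3 with hu
      have s2 := x24_sq (show 2 < 12 by norm_num)
      have s3 := x24_sq (show 3 < 12 by norm_num)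
      have b23 : x24 2 * x24 3 * x24 2 = x24 3 * x24 2 * x24 3 := x24_braid (by norm_num) (by norm_num) (by decide)
      have c13 : x24 3 * x24 1 = x24 1 * x24 3 := (x24_comm (by norm_num) (by norm_num) (by decide)).eq
      have hu2 : Commute u (x24 2) := by
        show u * x24 2 = x24 2 * u
        symm
        calc x24 2 * u = (x24 2 * x24 3 * x24 2) * x24 1 * x24 2 * x24 3 := by rw [hu]; group
          _ = x24 3 * x24 2 * (x24 3 * x24 1) * x24 2 * x24 3 := by rw [b23]; group
          _ = x24 3 * x24 2 * x24 1 * (x24 3 * x24 2 * x24 3) := by rw [c13]; group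
          _ = u * x24 2 := by rw [← b23, hu]; group
      have h5 : x24 5 * x24 3 = x24 3 * x24 5 := (x24_comm (by norm_num) (by norm_num) (by decide)).eq
      have h52 : x24 5 * x24 2 = x24 2 * x24 5 := (x24_comm (by norm_num) (by norm_num) (by decide)).eq
      have hz : u * x24 5 ∈ P := hcent _ (by simp only [hu, map_mul, sign24_x]; decide)
        (hu2.mul_left (x24_comm (by norm_num) (by norm_num) (by decide)))
      have hc : x24 2 * x24 3 ∈ P := hP (pair_mem_H23 (by norm_num) (by norm_num) (by norm_num) (by norm_num))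
      have h15 : x24 1 * x24 5 ∈ P := by
        have := mul_mem (mul_mem hc hz) (inv_mem hc)
        rwa [show x24 2 * x24 3 * (u * x24 5) * (x24 2 * x24 3)⁻¹ = x24 1 * x24 5 from by
          rw [mul_inv_rev, x24_inv (by norm_num), x24_inv (by norm_num), hu]
          calc x24 2 * x24 3 * (x24 3 * x24 2 * x24 1 * x24 2 * x24 3 * x24 5) * (x24 3 * x24 2)
              = x24 2 * (x24 3 * x24 3) * x24 2 * x24 1 * x24 2 * x24 3 * (x24 5 * x24 3) * x24 2 := by group
            _ = x24 2 * (x24 3 * x24 3) * x24 2 * x24 1 * x24 2 * (x24 3 * x24 3) * x24 5 * x24 2 := by rw [h5]; group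
            _ = x24 1 * x24 2 * (x24 5 * x24 2) := by rw [s3, mul_one, mul_one, s2]; group
            _ = x24 1 * (x24 2 * x24 2) * x24 5 := by rw [h52]; group
            _ = x24 1 * x24 5 := by rw [s2, mul_one]] at this
      have h53 : x24 5 * x24 3 ∈ P := hP (pair_mem_H23 (by norm_num) (by norm_num) (by norm_num) (by norm_num))
      have := mul_mem h15 h53
      rwa [show x24 1 * x24 5 * (x24 5 * x24 3) = x24 1 * (x24 5 * x24 5) * x24 3 by group,
        x24_sq (by norm_num), mul_one] at this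
  have h31 : x24 3 * x24 1 ∈ P := by
    have := inv_mem h13
    rwa [mul_inv_rev, x24_inv (by norm_num), x24_inv (by norm_num)] at this
  have s3 := x24_sq (show 3 < 12 by norm_num)
  have main : ∀ x : G24, (sign24 x = 1 → x ∈ P ∧ x24 3 * x * x24 3 ∈ P) ∧
      (sign24 x = -1 → x * x24 3 ∈ P ∧ x24 3 * x ∈ P) := by
    intro x
    have hx : x ∈ Subgroup.closure (x24 '' {a | a < 12}) := by rw [gens24]; trivial
    induction hx using Subgroup.closure_induction with
    | mem x hx =>
      obtain ⟨a, ha, rfl⟩ := hx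
      refine ⟨fun h => absurd (h.symm.trans (sign24_x a)) (by decide), fun _ => ?_⟩
      by_cases ha1 : a = 1
      · subst ha1; exact ⟨h13, h31⟩
      · exact ⟨hP (pair_mem_H23 ha (by norm_num) ha1 (by norm_num)),
          hP (pair_mem_H23 (by norm_num) ha (by norm_num) ha1)⟩
    | one =>
      refine ⟨fun _ => ⟨one_mem _, by rw [mul_one, s3]; exact one_mem _⟩, fun h => ?_⟩
      rw [map_one] at h
      exact absurd h (by decide)
    | mul x y _ _ hx hy =>
      rcases sign24_cases x with hxs | hxs <;> rcases sign24_cases y with hys | hys <;>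
        rw [map_mul, hxs, hys]
      · obtain ⟨a, a'⟩ := hx.1 hxs
        obtain ⟨b, b'⟩ := hy.1 hys
        refine ⟨fun _ => ⟨mul_mem a b, ?_⟩, fun h => absurd h (by decide)⟩
        have := mul_mem a' b'
        rwa [show x24 3 * x * x24 3 * (x24 3 * y * x24 3) = x24 3 * x * (x24 3 * x24 3) * (y * x24 3) by group,
          s3, mul_one, ← mul_assoc, mul_assoc (x24 3) x y] at this
      · obtain ⟨a, a'⟩ := hx.1 hxs
        obtain ⟨b, b'⟩ := hy.2 hys
        refine ⟨fun h => absurd h (by decide), fun _ => ⟨by rw [mul_assoc]; exact mul_mem a b, ?_⟩⟩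
        have := mul_mem a' b'
        rwa [show x24 3 * x * x24 3 * (x24 3 * y) = x24 3 * x * (x24 3 * x24 3) * y by group,
          s3, mul_one, mul_assoc] at this
      · obtain ⟨a, a'⟩ := hx.2 hxs
        obtain ⟨b, b'⟩ := hy.1 hys
        refine ⟨fun h => absurd h (by decide), fun _ => ⟨?_, by rw [← mul_assoc]; exact mul_mem a' b⟩⟩
        have := mul_mem a b'
        rwa [show x * x24 3 * (x24 3 * y * x24 3) = x * (x24 3 * x24 3) * y * x24 3 by group,
          s3, mul_one] at this
      · obtain ⟨a, a'⟩ := hx.2 hxs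
        obtain ⟨b, b'⟩ := hy.2 hys
        refine ⟨fun _ => ⟨?_, ?_⟩, fun h => absurd h (by decide)⟩
        · have := mul_mem a b'
          rwa [show x * x24 3 * (x24 3 * y) = x * (x24 3 * x24 3) * y by group, s3, mul_one] at this
        · have := mul_mem a' b
          rwa [show x24 3 * x * (y * x24 3) = x24 3 * (x * y) * x24 3 by group] at this
    | inv x _ hx =>
      rw [map_inv]
      rcases sign24_cases x with hxs | hxs <;> rw [hxs]
      · obtain ⟨a, a'⟩ := hx.1 hxs
        refine ⟨fun _ => ⟨inv_mem a, ?_⟩, fun h => absurd h (by decide)⟩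
        have := inv_mem a'
        rwa [mul_inv_rev, mul_inv_rev, x24_inv (by norm_num), ← mul_assoc] at this
      · obtain ⟨a, a'⟩ := hx.2 hxs
        refine ⟨fun h => absurd h (by decide), fun _ => ⟨?_, ?_⟩⟩
        · have := inv_mem a'
          rwa [mul_inv_rev, x24_inv (by norm_num)] at this
        · have := inv_mem a
          rwa [mul_inv_rev, x24_inv (by norm_num)] at this
  exact fun x hx => ((main x).1 (mem_C24.1 hx)).1

/-- The copy of Fi23 is simple. -/
theorem simple_H23 : IsSimpleGroup ↥H23 := by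
  let f : ↥H23 →* CosetEnum.fi23Setup.G := gen24_x.toFi23.comp (Subgroup.inclusion inf_le_left)
  have hinj : Function.Injective f := by
    rw [← MonoidHom.ker_eq_bot_iff, eq_bot_iff]
    intro g hg
    have hk : (Subgroup.inclusion (inf_le_left : H23 ≤ hsub x24) g) ∈ gen24_x.toFi23.ker := hg
    rw [gen24_x.toFi23_ker_zsub] at hk
    rcases gen24_x.mem_zsub hk with h | h
    · exact Subtype.ext h
    · have h1 : sign24 (x24 0) = 1 := by rw [← h]; exact (mem_H23.1 g.2).2
      exact absurd (h1.symm.trans (sign24_x 0)) (by decide)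
  have hsurj : Function.Surjective f := by
    intro y
    obtain ⟨⟨h, hh⟩, rfl⟩ := gen24_x.toFi23_surj y
    rcases sign24_cases h with hp | hn
    · exact ⟨⟨h, mem_H23.2 ⟨hh, hp⟩⟩, rfl⟩
    · refine ⟨⟨h * x24 0, mem_H23.2 ⟨mul_mem hh gen24_x.first_mem, by rw [map_mul, hn, sign24_x]; decide⟩⟩, ?_⟩
      show gen24_x.toFi23 (⟨h, hh⟩ * gen24_x.first) = _
      have hz : gen24_x.first ∈ gen24_x.toFi23.ker := by
        rw [gen24_x.toFi23_ker_zsub]; exact Subgroup.mem_zpowers _
      rw [map_mul, MonoidHom.mem_ker.1 hz, mul_one]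
  have : IsSimpleGroup CosetEnum.fi23Setup.G := S1697.main.1
  exact (MulEquiv.ofBijective f ⟨hinj, hsurj⟩).isSimpleGroup

/-- The even elements fix only their own point with all of Fi23. -/
theorem H23_not_normal : ¬ ∀ u ∈ C24, ∀ h ∈ H23, u * h * u⁻¹ ∈ H23 := by
  intro hn
  have hu : (farG x24)⁻¹ ∈ C24 := inv_mem (mem_C24.2 (MonoidHom.mem_ker.1 pair_mem))
  have h := hn _ hu _ (pair_mem_H23 (a := 2) (b := 5) (by norm_num) (by norm_num) (by norm_num) (by norm_num))
  rw [inv_inv] at h
  have hc := gen24_x.first_comm (mem_H23.1 h).1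
  have hc' : Commute (x24 1) (x24 2 * x24 5) := by
    have := hc.map (MulAut.conj (farG x24)).toMonoidHom
    rwa [show (MulAut.conj (farG x24)).toMonoidHom (x24 0) = x24 1 from act24.far_conj,
      show (MulAut.conj (farG x24)).toMonoidHom ((farG x24)⁻¹ * (x24 2 * x24 5) * farG x24) = x24 2 * x24 5 by
        show farG x24 * _ * (farG x24)⁻¹ = _
        group] at this
  have hc12 : Commute (x24 1) (x24 2) := by
    have := hc'.mul_right (x24_comm (a := 1) (b := 5) (by norm_num) (by norm_num) (by decide))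
    rwa [mul_assoc, x24_sq (by norm_num), mul_one] at this
  have h3 := act24.b12
  rw [hc12.mul_pow, pow_succ, pow_two, x24_sq (show 1 < 12 by norm_num), one_mul, pow_succ, pow_two,
    x24_sq (show 2 < 12 by norm_num), one_mul] at h3
  refine act24.nc ?_
  rw [eq_inv_of_mul_eq_one_left h3, x24_inv (by norm_num)]
  exact x24_comm (by norm_num) (by norm_num) (by decide)

theorem exists_even_map (i : Fin fi24c.n) : ∃ g ∈ C24, rho24 g p24 = i := by
  obtain ⟨g, rfl⟩ := trans24 i
  rcases sign24_cases g with hp | hn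
  · exact ⟨g, mem_C24.2 hp, rfl⟩
  · refine ⟨g * x24 0, mem_C24.2 (by rw [map_mul, hn, sign24_x]; decide), ?_⟩
    rw [map_mul, Equiv.Perm.mul_apply, (stab24 _).2 gen24_x.first_mem]

theorem orbits_H23 (i : Fin fi24c.n) (hi : i ≠ p24) :
    ∃ h ∈ H23, rho24 h (rho24 (farG x24) p24) = i ∨ rho24 h (rho24 (nearG x24) p24) = i := by
  rcases cover i with h | ⟨h, hh, e | e⟩
  · exact absurd h hi
  · rcases sign24_cases h with hp | hn
    · exact ⟨h, mem_H23.2 ⟨hh, hp⟩, Or.inl e⟩
    · refine ⟨h * x24 3, mem_H23.2 ⟨mul_mem hh (x24_mem_hsub (by norm_num) (by norm_num)),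
        by rw [map_mul, hn, sign24_x]; decide⟩, Or.inl ?_⟩
      rw [map_mul, Equiv.Perm.mul_apply, fix_far, e]
  · rcases sign24_cases h with hp | hn
    · exact ⟨h, mem_H23.2 ⟨hh, hp⟩, Or.inr e⟩
    · refine ⟨h * x24 2, mem_H23.2 ⟨mul_mem hh (x24_mem_hsub (by norm_num) (by norm_num)),
        by rw [map_mul, hn, sign24_x]; decide⟩, Or.inr ?_⟩
      rw [map_mul, Equiv.Perm.mul_apply, fix_near, e]

/-- Simplicity. -/
theorem simple_commutator : IsSimpleGroup ↥C24 := by
  haveI : Finite G24 := finite_G24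
  haveI : IsSimpleGroup ↥H23 := simple_H23
  have hle : H23 ≤ C24 := inf_le_right
  have hnt : Nontrivial ↥C24 := by
    refine Finite.one_lt_card_iff_nontrivial.1 ?_
    rw [card_commutator]; norm_num
  refine ⟨fun N hN => ?_⟩
  set ι : ↥H23 →* ↥C24 := Subgroup.inclusion hle
  rcases (Subgroup.Normal.comap hN ι).eq_bot_or_eq_top with hb | ht
  · -- regular
    by_cases hfix : ∀ n ∈ N, rho24 (n : G24) p24 = p24
    · refine Or.inl (eq_bot_iff.2 fun n hn => ?_)
      have hmem : (n : G24) ∈ H23 := mem_H23.2 ⟨(stab24 _).1 (hfix n hn), mem_C24.1 n.2⟩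
      have : (⟨n, hmem⟩ : ↥H23) ∈ N.comap ι := hn
      rw [hb, Subgroup.mem_bot] at this
      exact Subgroup.mem_bot.2 (Subtype.ext (congrArg Subtype.val this :))
    · exfalso
      push Not at hfix
      obtain ⟨g, hg, hmove⟩ := hfix
      set P := N ⊔ ι.range
      have hP : C24 ≤ P.map C24.subtype := by
        refine even_le_of_moves (fun h hh => ?_) (Subgroup.mem_map_of_mem _ (le_sup_left (b := ι.range) hg))
          (mem_C24.1 g.2) hmove
        exact ⟨ι ⟨h, hh⟩, le_sup_right (a := N) ⟨⟨h, hh⟩, rfl⟩, rfl⟩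
      let φ : ↥N → Fin fi24c.n := fun n => rho24 ((n : ↥C24) : G24) p24
      have hφ : Function.Bijective φ := by
        refine ⟨fun n m h => ?_, fun i => ?_⟩
        · have h' : rho24 (((m : ↥C24) : G24)⁻¹ * ((n : ↥C24) : G24)) p24 = p24 := by
            rw [map_mul, map_inv, Equiv.Perm.mul_apply, show rho24 ((n : ↥C24) : G24) p24 = _ from h]
            exact (rho24 ((m : ↥C24) : G24)).symm_apply_apply p24
          have hmem : ((m : ↥C24) : G24)⁻¹ * ((n : ↥C24) : G24) ∈ H23 := mem_H23.2 ⟨(stab24 _).1 h',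
            by rw [map_mul, map_inv, mem_C24.1 m.1.2, mem_C24.1 n.1.2]; simp⟩
          have : (⟨_, hmem⟩ : ↥H23) ∈ N.comap ι := mul_mem (inv_mem m.2) n.2
          rw [hb, Subgroup.mem_bot] at this
          exact Subtype.ext (Subtype.ext (inv_mul_eq_one.1 (congrArg Subtype.val this :)).symm)
        · obtain ⟨g', hg', e⟩ := exists_even_map i
          obtain ⟨p, hp, rfl⟩ := hP hg'
          have hp' : p ∈ (↑(N ⊔ ι.range) : Set ↥C24) := hp
          rw [Subgroup.normal_mul] at hp'
          obtain ⟨n, hn, h, hh, rfl⟩ := Set.mem_mul.1 hp'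
          obtain ⟨⟨h', hh'⟩, rfl⟩ := hh
          refine ⟨⟨n, hn⟩, ?_⟩
          rw [← e]
          show rho24 (n : G24) p24 = rho24 ((n : G24) * h') p24
          rw [map_mul, Equiv.Perm.mul_apply, (stab24 _).2 (mem_H23.1 hh').1]
      have hcard : Nat.card ↥N = 306936 := by
        rw [Nat.card_eq_of_bijective φ hφ, Nat.card_fin]; rfl
      obtain ⟨nf, hnf⟩ := hφ.2 (rho24 (farG x24) p24)
      obtain ⟨nn, hnn⟩ := hφ.2 (rho24 (nearG x24) p24)
      have horder : ∀ n : ↥N, n ≠ 1 → orderOf n = orderOf nf ∨ orderOf n = orderOf nn := by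
        intro n hn1
        have hne : φ n ≠ p24 := fun h => hn1 (hφ.1 (h.trans (by show p24 = rho24 ((1 : ↥C24) : G24) p24; simp)))
        obtain ⟨h, hh, e⟩ := orbits_H23 _ hne
        have conj : ∀ m : ↥N, rho24 h (φ m) = φ n → orderOf n = orderOf m := by
          intro m e
          let c : ↥C24 := ⟨h, hle hh⟩
          let m' : ↥N := ⟨c * m * c⁻¹, hN.conj_mem _ m.2 c⟩
          have : m' = n := hφ.1 (by
            rw [← e]
            show rho24 (h * ((m : ↥C24) : G24) * h⁻¹) p24 = _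
            rw [map_mul, map_mul, Equiv.Perm.mul_apply, Equiv.Perm.mul_apply,
              (stab24 _).2 (inv_mem (mem_H23.1 hh).1)])
          rw [← this, ← orderOf_injective N.subtype Subtype.val_injective,
            ← orderOf_injective N.subtype Subtype.val_injective m]
          exact (SemiconjBy.orderOf_eq c (show SemiconjBy c (m : ↥C24) (c * m * c⁻¹) by
            show c * (m : ↥C24) = c * m * c⁻¹ * c
            rw [inv_mul_cancel_right])).symm
        rcases e with e | e
        · exact Or.inl (conj nf (by rw [hnf]; exact e))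
        · exact Or.inr (conj nn (by rw [hnn]; exact e))
      have hp : ∀ p, p.Prime → p ∣ 306936 → p = orderOf nf ∨ p = orderOf nn := by
        intro p hp hd
        haveI := Fact.mk hp
        obtain ⟨n, hn⟩ := exists_prime_orderOf_dvd_card' p (hcard ▸ hd : p ∣ Nat.card ↥N)
        have := horder n (fun h => hp.ne_one (by rw [← hn, h, orderOf_one]))
        rwa [hn] at this
      rcases hp 2 Nat.prime_two (by norm_num) with h2 | h2 <;>
        rcases hp 3 Nat.prime_three (by norm_num) with h3 | h3 <;>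
        rcases hp 7 (by norm_num) (by norm_num) with h7 | h7 <;> omega
  · have hH : ∀ h (hh : h ∈ H23), (⟨h, hle hh⟩ : ↥C24) ∈ N := fun h hh => by
      have : (⟨h, hh⟩ : ↥H23) ∈ N.comap ι := by rw [ht]; exact Subgroup.mem_top _
      exact this
    by_cases hfix : ∀ n ∈ N, rho24 (n : G24) p24 = p24
    · exfalso
      refine H23_not_normal fun u hu h hh => ?_
      have hm := hN.conj_mem _ (hH h hh) ⟨u, hu⟩
      exact mem_H23.2 ⟨(stab24 _).1 (hfix _ hm), mem_C24.1 (mul_mem (mul_mem hu (hle hh)) (inv_mem hu))⟩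
    · push Not at hfix
      obtain ⟨g, hg, hmove⟩ := hfix
      refine Or.inr (eq_top_iff.2 fun x _ => ?_)
      obtain ⟨n, hn, e⟩ := even_le_of_moves (P := N.map C24.subtype) (fun h hh => ⟨_, hH h hh, rfl⟩)
        (Subgroup.mem_map_of_mem _ hg) (mem_C24.1 g.2) hmove x.2
      rwa [← Subtype.ext (e : (n : G24) = x)]

end Cfsg.Agent.FiTwentyFour
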