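/-
Every automorphism of the commutator subgroup of Fi24 is induced by Fi24.
Main results: `setup24`, `common_member`, `exists_conj`, `card_out_C24`.
-/
import Cfsg.Agent.Lib.FiTwentyFour.Simple
import Cfsg.Agent.Lib.FiTwentyFour.Pairs
import Cfsg.Agent.Lib.FiTwentyFour.Fixed
import Cfsg.Agent.Lib.FischerExist.ModelM24
import Cfsg.Agent.Lib.Fi23Aut.Outer

set_option autoImplicit false
set_option maxRecDepth 10000

namespace Cfsg.Agent.FiTwentyFour

open Cfsg.Agent.ThreeTrans Cfsg.Agent.ThreeTransSU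
open Cfsg.Agent.FischerM22 (IsProd IsTriple isProd_two)
open Cfsg.Agent.FischerM24 (Fi24Setup involution_prod prod_conj prod_order isProd_cases4)
open Cfsg.Agent.FischerExist (Gen24 hsub farG nearG conj_step ev_reverse exists_type24_of_table m24Points fix24 pts24
  bits24 inj24 orbit24_0 orbit24_1 orb24_0 orb24_1 cover24 m24Local)

/-- The class of transpositions. -/
abbrev D24 : Set G24 := conjugatesOf (x24 0)

theorem act_base {a : ℕ} (h2 : 2 ≤ a) (ha : a < 12) : fi24c.act a 0 = 0 := by
  have := congrArg Fin.val (rho24_H24 _ (x24_mem ha (by omega)))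
  rwa [rho24_val ha] at this

theorem conj_gen : ∀ s < m24Local.R.k + 1, ev x24 (m24Points.cw.getD s []) =
    ev x24 (m24Points.gw.getD s []) * x24 0 * (ev x24 (m24Points.gw.getD s []))⁻¹ := by
  have st : ∀ {w : List ℕ} {a b : ℕ}, a < 12 → b < 12 → lab24 a b = 3 →
      ev x24 w * x24 0 * (ev x24 w)⁻¹ = x24 a →
      ev x24 (w ++ [b, a]) * x24 0 * (ev x24 (w ++ [b, a]))⁻¹ = x24 b := fun ha hb hl h =>
    conj_step (x24_sq ha) (x24_sq hb) (hl ▸ x24_pow ha hb) h
  have h1 := st (w := []) (a := 0) (b := 1) (by norm_num) (by norm_num) (by decide) (by simp [ev])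
  have h2 := st (b := 2) (by norm_num) (by norm_num) (by decide) h1
  have h3 := st (b := 3) (by norm_num) (by norm_num) (by decide) h2
  have h4 := st (b := 4) (by norm_num) (by norm_num) (by decide) h3
  have h5 := st (b := 5) (by norm_num) (by norm_num) (by decide) h4
  have h6 := st (b := 6) (by norm_num) (by norm_num) (by decide) h5
  have h7 := st (b := 7) (by norm_num) (by norm_num) (by decide) h6
  have h8 := st (b := 8) (by norm_num) (by norm_num) (by decide) h7
  have h9 := st (b := 9) (by norm_num) (by norm_num) (by decide) h8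
  have h10 := st (b := 10) (by norm_num) (by norm_num) (by decide) h5
  have h11 := st (b := 11) (by norm_num) (by norm_num) (by decide) h10
  have one : ∀ a, ev x24 [a] = x24 a := fun a => by simp [ev]
  intro s hs
  change s < 10 at hs
  interval_cases s
  · exact (one 3).trans h3.symm
  · exact (one 4).trans h4.symm
  · exact (one 5).trans h5.symm
  · exact (one 6).trans h6.symm
  · exact (one 7).trans h7.symm
  · exact (one 8).trans h8.symm
  · exact (one 9).trans h9.symm
  · exact (one 10).trans h10.symm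
  · exact (one 11).trans h11.symm
  · have hlt : ∀ a ∈ m24Points.gw.getD 9 [], x24 a * x24 a = 1 := fun a ha => x24_sq (by
      revert a; decide +kernel)
    rw [show m24Points.cw.getD 9 [] = (m24Points.gw.getD 9 []).reverse ++ 0 :: m24Points.gw.getD 9 [] from rfl,
      ev_append, ev_reverse _ hlt]
    rfl

theorem setup24 : Fi24Setup D24 := by
  haveI : Finite G24 := finite_G24
  obtain ⟨h1, h2, h3⟩ := exists_type24_of_table (C := fi24c) perms24 rfl rho24 (fun a ha i => rho24_val ha i)
    gen24_x (fun a ha => x24_sq ha) act24.b01 act24.b12 gens24 (fun g hg => (stab24 g).1 hg) trans24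
    (fun a h2 ha => act_base h2 ha) m24Points fix24 pts24 bits24 conj_gen inj24 orb24_0 orb24_1 cover24
  exact FischerM24.setup_of_primitive (group_of_class h1) h2 h3

theorem sign_D {d : G24} (hd : d ∈ D24) : sign24 d = -1 := by
  obtain ⟨g, rfl⟩ := isConj_iff.1 (show IsConj (x24 0) d from hd)
  rw [map_mul, map_mul, map_inv, sign24_x, mul_right_comm, mul_inv_cancel, one_mul]

theorem commute_iff_fix {g u : G24} :
    Commute g (u * x24 0 * u⁻¹) ↔ rho24 g (rho24 u p24) = rho24 u p24 := by
  refine ⟨fun h => fix_of_commute h.eq, fun h => ?_⟩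
  have hfix : rho24 (u⁻¹ * g * u) p24 = p24 := by
    rw [map_mul, map_mul, Equiv.Perm.mul_apply, Equiv.Perm.mul_apply, h, map_inv]
    exact (rho24 u).symm_apply_apply p24
  have h' := (act24.stab_iff_commute _).1 hfix
  calc g * (u * x24 0 * u⁻¹) = u * (u⁻¹ * g * u * x24 0) * u⁻¹ := by group
    _ = u * (x24 0 * (u⁻¹ * g * u)) * u⁻¹ := by rw [h']
    _ = _ := by group

theorem isProd_conj (g : G24) {m : ℕ} {x : G24} (h : IsProd D24 m x) : IsProd D24 m (g * x * g⁻¹) := by
  obtain ⟨l, hn, hlen, hD, hc, rfl⟩ := h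
  refine ⟨l.map (MulAut.conj g), hn.map (MulAut.conj g).injective, by simp [hlen], fun a ha => ?_,
    fun a ha b hb => ?_, ?_⟩
  · haveI : Finite G24 := finite_G24
    obtain ⟨a', ha', rfl⟩ := List.mem_map.1 ha
    exact setup24.conj_mem g (hD a' ha')
  · obtain ⟨a', ha', rfl⟩ := List.mem_map.1 ha
    obtain ⟨b', hb', rfl⟩ := List.mem_map.1 hb
    exact (hc a' ha' b' hb').map (MulAut.conj g).toMonoidHom
  · rw [← map_list_prod]; rfl

/-- Conjugates of a product are conjugate by even elements. -/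
theorem exists_even_conj {m : ℕ} {x y : G24} (h1 : 1 ≤ m) (h : IsProd D24 m x) (hc : IsConj x y) :
    ∃ g ∈ C24, g * x * g⁻¹ = y := by
  obtain ⟨g, rfl⟩ := isConj_iff.1 hc
  rcases sign24_cases g with hp | hn
  · exact ⟨g, mem_C24.2 hp, rfl⟩
  · obtain ⟨l, -, hlen, hD, hcm, rfl⟩ := h
    match l, hlen with
    | [], hlen => simp at hlen; omega
    | a :: l, _ =>
      refine ⟨g * a, mem_C24.2 (by rw [map_mul, hn, sign_D (hD a List.mem_cons_self)]; decide), ?_⟩
      have hca : Commute a (a :: l).prod := Commute.list_prod_right _ _ fun b hb => hcm a List.mem_cons_self b hb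
      calc g * a * (a :: l).prod * (g * a)⁻¹ = g * (a * (a :: l).prod * a⁻¹) * g⁻¹ := by group
        _ = _ := by rw [hca.eq, mul_inv_cancel_right]

theorem even_of_two {x : G24} (h : IsProd D24 2 x) : x ∈ C24 := by
  obtain ⟨a, ha, b, hb, rfl⟩ := isProd_two_iff.1 h
  exact mem_C24.2 (by rw [map_mul, sign_D ha, sign_D hb.1]; rfl)

/-- Automorphisms keep the products of two commuting transpositions. -/
theorem map_pair (φ : MulAut ↥C24) {x : ↥C24} (hx : IsProd D24 2 (x : G24)) : IsProd D24 2 (φ x : G24) := by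
  haveI : Finite G24 := finite_G24
  have S := setup24
  have ho : orderOf (φ x : G24) = 2 := by
    rw [show ((φ x : ↥C24) : G24) = C24.subtype (φ x) from rfl,
      orderOf_injective C24.subtype Subtype.val_injective, MulEquiv.orderOf_eq,
      ← orderOf_injective C24.subtype Subtype.val_injective]
    exact prod_order S (by norm_num) (by norm_num) hx
  have hsq : (φ x : G24) * (φ x : G24) = 1 := by rw [← pow_two, ← ho]; exact pow_orderOf_eq_one _
  have hne : (φ x : G24) ≠ 1 := fun h => by rw [h, orderOf_one] at ho; norm_num at ho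
  obtain ⟨m, h1, h4, hm⟩ := involution_prod S hsq hne
  have hev := mem_C24.1 (φ x).2
  rcases isProd_cases4 h1 h4 hm with ⟨rfl, hd⟩ | ⟨rfl, -⟩ | ⟨rfl, a, b, c, ⟨ha, hb, hc, -⟩, e⟩ | ⟨rfl, -⟩
  · rw [sign_D hd] at hev; exact absurd hev (by decide)
  · exact hm
  · rw [e, map_mul, map_mul, sign_D ha, sign_D hb, sign_D hc] at hev; exact absurd hev (by decide)
  exfalso
  refine class_ncard_ne S ?_
  rw [← Nat.card_coe_set_eq, ← Nat.card_coe_set_eq]
  have himg : ∀ z : {z : G24 | IsProd D24 2 z}, IsProd D24 4 (φ ⟨z, even_of_two z.2⟩ : G24) := by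
    intro z
    obtain ⟨g, hg, e⟩ := exists_even_conj (by norm_num) hx (prod_conj S (by norm_num) (by norm_num) hx z.2)
    have : (⟨z, even_of_two z.2⟩ : ↥C24) = ⟨g, hg⟩ * x * ⟨g, hg⟩⁻¹ := Subtype.ext e.symm
    rw [this, map_mul, map_mul, map_inv]
    exact isProd_conj _ hm
  refine (Nat.card_congr (Equiv.ofBijective
    (fun z : {z : G24 | IsProd D24 2 z} => (⟨_, himg z⟩ : {z : G24 | IsProd D24 4 z})) ⟨?_, ?_⟩)).symm
  · intro z z' h
    have h' : φ ⟨z, even_of_two z.2⟩ = φ ⟨z', even_of_two z'.2⟩ := Subtype.ext (congrArg Subtype.val h :)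
    exact Subtype.ext (congrArg Subtype.val (φ.injective h') :)
  · rintro ⟨w, hw⟩
    obtain ⟨g, hg, e⟩ := exists_even_conj (by norm_num) hm (prod_conj S (by norm_num) le_rfl hm hw)
    set g' : ↥C24 := φ.symm ⟨g, hg⟩ with hg'
    refine ⟨⟨(g' : G24) * x * (g' : G24)⁻¹, isProd_conj _ hx⟩, Subtype.ext ?_⟩
    show ((φ ⟨(g' : G24) * x * (g' : G24)⁻¹, _⟩ : ↥C24) : G24) = w
    rw [show (⟨(g' : G24) * x * (g' : G24)⁻¹, even_of_two (isProd_conj _ hx)⟩ : ↥C24) = g' * x * g'⁻¹ from
      Subtype.ext rfl, map_mul, map_mul, map_inv, hg', MulEquiv.apply_symm_apply]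
    exact e

/-! ### The image of Fi23 fixes a member -/

/-- A generator of Fi23 inside the even elements. -/
def eC (i : ℕ) : ↥C24 := ⟨x24 0 * x24 i, mem_C24.2 (MonoidHom.mem_ker.1 pair_mem)⟩

theorem comm_zero {i : ℕ} (h2 : 2 ≤ i) (hi : i < 12) : Commute (x24 0) (x24 i) := gen24_x.comm i h2 hi

theorem lx_mul {i j : ℕ} (h2 : 2 ≤ i) (hi : i < 12) : x24 0 * x24 i * (x24 0 * x24 j) = x24 i * x24 j := by
  rw [(comm_zero h2 hi).eq, mul_assoc, ← mul_assoc (x24 0) (x24 0), x24_sq (by norm_num), one_mul]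

theorem eC_braid {i j : ℕ} (h2 : 2 ≤ i) (hi : i < 12) (h2' : 2 ≤ j) (hj : j < 12) (h : lab24 i j = 3) :
    eC i * eC j * eC i = eC j * eC i * eC j := by
  refine Subtype.ext ?_
  show x24 0 * x24 i * (x24 0 * x24 j) * (x24 0 * x24 i) = x24 0 * x24 j * (x24 0 * x24 i) * (x24 0 * x24 j)
  rw [lx_mul h2 hi, lx_mul h2' hj]
  calc x24 i * x24 j * (x24 0 * x24 i) = x24 i * x24 j * x24 0 * x24 i := by group
    _ = x24 0 * (x24 i * x24 j * x24 i) := by
      rw [← ((comm_zero h2 hi).mul_right (comm_zero h2' hj)).eq]; group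
    _ = x24 0 * (x24 j * x24 i * x24 j) := by rw [x24_braid hi hj h]
    _ = x24 j * x24 i * x24 0 * x24 j := by
      rw [← ((comm_zero h2' hj).mul_right (comm_zero h2 hi)).eq]; group
    _ = _ := by group

theorem eC_comm {i j : ℕ} (h2 : 2 ≤ i) (hi : i < 12) (h2' : 2 ≤ j) (hj : j < 12) (h : lab24 i j = 2) :
    Commute (eC i) (eC j) := by
  refine Subtype.ext ?_
  show x24 0 * x24 i * (x24 0 * x24 j) = x24 0 * x24 j * (x24 0 * x24 i)
  rw [lx_mul h2 hi, lx_mul h2' hj, (x24_comm hi hj h).eq]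

theorem eC_seven : (eC 2 * eC 3 * eC 4 * eC 5 * eC 6 * eC 7 * eC 10) ^ 9 = 1 := by
  refine Subtype.ext ?_
  rw [SubmonoidClass.coe_pow]
  simp only [Subgroup.coe_mul, eC, Subgroup.coe_one]
  set w := x24 2 * x24 3 * x24 4 * x24 5 * x24 6 * x24 7 * x24 10 with hw
  have hc6 : Commute (x24 0) (x24 2 * x24 3 * x24 4 * x24 5 * x24 6 * x24 7) :=
    ((((((comm_zero (i := 2) le_rfl (by norm_num)).mul_right (comm_zero (i := 3) (by norm_num) (by norm_num))).mul_right
      (comm_zero (i := 4) (by norm_num) (by norm_num))).mul_right (comm_zero (i := 5) (by norm_num) (by norm_num))).mul_right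
      (comm_zero (i := 6) (by norm_num) (by norm_num))).mul_right (comm_zero (i := 7) (by norm_num) (by norm_num)))
  have hc : Commute (x24 0) w := hc6.mul_right (comm_zero (by norm_num) (by norm_num))
  have e : x24 0 * x24 2 * (x24 0 * x24 3) * (x24 0 * x24 4) * (x24 0 * x24 5) * (x24 0 * x24 6) * (x24 0 * x24 7) *
      (x24 0 * x24 10) = x24 0 * w := by
    calc _ = x24 0 * x24 2 * (x24 0 * x24 3) * ((x24 0 * x24 4) * (x24 0 * x24 5)) *
          ((x24 0 * x24 6) * (x24 0 * x24 7)) * (x24 0 * x24 10) := by group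
      _ = x24 2 * x24 3 * (x24 4 * x24 5) * (x24 6 * x24 7) * (x24 0 * x24 10) := by
        rw [lx_mul le_rfl (by norm_num), lx_mul (i := 4) (by norm_num) (by norm_num),
          lx_mul (i := 6) (by norm_num) (by norm_num)]
      _ = x24 2 * x24 3 * x24 4 * x24 5 * x24 6 * x24 7 * x24 0 * x24 10 := by group
      _ = x24 0 * w := by rw [← hc6.eq, hw]; group
  rw [e, hc.mul_pow, x24_seven, pow_succ, show (x24 0) ^ 8 = (x24 0 * x24 0) ^ 4 by rw [← pow_two, ← pow_mul],
    x24_sq (by norm_num), one_pow, one_mul, x24_sq (by norm_num)]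

/-- Fixing both of a pair. -/
def Fx (p q g : G24) : Prop := g * p * g⁻¹ = p ∧ g * q * g⁻¹ = q

/-- Swapping the members of a pair. -/
def Sw (p q g : G24) : Prop := g * p * g⁻¹ = q ∧ g * q * g⁻¹ = p

theorem conj_two (v w a : G24) : v * w * a * (v * w)⁻¹ = v * (w * a * w⁻¹) * v⁻¹ := by group

theorem sw_mul_sw {p q v w : G24} (hv : Sw p q v) (hw : Sw p q w) : Fx p q (v * w) :=
  ⟨by rw [conj_two, hw.1, hv.2], by rw [conj_two, hw.2, hv.1]⟩

theorem fx_mul_sw {p q v w : G24} (hv : Fx p q v) (hw : Sw p q w) : Sw p q (v * w) :=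
  ⟨by rw [conj_two, hw.1, hv.2], by rw [conj_two, hw.2, hv.1]⟩

theorem sw_mul_fx {p q v w : G24} (hv : Sw p q v) (hw : Fx p q w) : Sw p q (v * w) :=
  ⟨by rw [conj_two, hw.1, hv.1], by rw [conj_two, hw.2, hv.2]⟩

theorem fx_mul_fx {p q v w : G24} (hv : Fx p q v) (hw : Fx p q w) : Fx p q (v * w) :=
  ⟨by rw [conj_two, hw.1, hv.1], by rw [conj_two, hw.2, hv.2]⟩

theorem fx_of_braid {p q v w : G24} (hne : p ≠ q) (hv : Fx p q v) (hw : Fx p q w ∨ Sw p q w)
    (hb : v * w * v = w * v * w) : Fx p q w := by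
  refine hw.resolve_right fun hs => hne ?_
  have h1 := (sw_mul_fx (fx_mul_sw hv hs) hv).1
  have h2 := (sw_mul_sw (sw_mul_fx hs hv) hs).1
  rw [hb] at h1
  exact h2.symm.trans h1

theorem sw_of_braid {p q v w : G24} (hne : p ≠ q) (hv : Sw p q v) (hw : Fx p q w ∨ Sw p q w)
    (hb : v * w * v = w * v * w) : Sw p q w := by
  refine hw.resolve_left fun hf => ?_
  have := fx_of_braid hne hf (Or.inr hv) hb.symm
  exact hne (this.1.symm.trans hv.1)

/-- Some member is centralised by the image of all generators. -/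
theorem common_member (φ : MulAut ↥C24) : ∃ p ∈ D24, ∀ i, 2 ≤ i → i < 12 → Commute (φ (eC i) : G24) p := by
  haveI : Finite G24 := finite_G24
  have S := setup24
  set e : ℕ → G24 := fun i => (φ (eC i) : G24) with he
  have hP : ∀ {i}, 2 ≤ i → i < 12 → IsProd D24 2 (e i) := fun {i} h2 hi =>
    map_pair φ (isProd_two (mem_conjugatesOf_self) (act24.el_adj h2 hi))
  have hbr : ∀ {i j}, 2 ≤ i → i < 12 → 2 ≤ j → j < 12 → lab24 i j = 3 →
      e i * e j * e i = e j * e i * e j := fun {i j} a b c d h => by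
    have := congrArg (fun z : ↥C24 => (φ z : G24)) (eC_braid a b c d h)
    simpa [he] using this
  have hcm : ∀ {i j}, 2 ≤ i → i < 12 → 2 ≤ j → j < 12 → lab24 i j = 2 → Commute (e i) (e j) :=
    fun {i j} a b c d h => ((eC_comm a b c d h).map φ.toMonoidHom).map C24.subtype
  obtain ⟨p, hp, q, hq, e9⟩ := isProd_two_iff.1 (hP (i := 9) (by norm_num) (by norm_num))
  have hne : p ≠ q := hq.2.1.symm
  have cases9 : ∀ {i}, 2 ≤ i → i < 12 → lab24 i 9 = 2 → Fx p q (e i) ∨ Sw p q (e i) := fun {i} a b h => by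
    have := hcm a b (by norm_num) (by norm_num : 9 < 12) h
    rw [e9] at this
    exact fix_or_swap S hp hq this
  have c2 := cases9 (i := 2) le_rfl (by norm_num) (by decide)
  have c3 := cases9 (i := 3) (by norm_num) (by norm_num) (by decide)
  have c4 := cases9 (i := 4) (by norm_num) (by norm_num) (by decide)
  have c5 := cases9 (i := 5) (by norm_num) (by norm_num) (by decide)
  have c6 := cases9 (i := 6) (by norm_num) (by norm_num) (by decide)
  have c7 := cases9 (i := 7) (by norm_num) (by norm_num) (by decide)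
  have c10 := cases9 (i := 10) (by norm_num) (by norm_num) (by decide)
  have c11 := cases9 (i := 11) (by norm_num) (by norm_num) (by decide)
  have b23 := hbr (i := 2) (j := 3) le_rfl (by norm_num) (by norm_num) (by norm_num) (by decide)
  have b34 := hbr (i := 3) (j := 4) (by norm_num) (by norm_num) (by norm_num) (by norm_num) (by decide)
  have b45 := hbr (i := 4) (j := 5) (by norm_num) (by norm_num) (by norm_num) (by norm_num) (by decide)
  have b56 := hbr (i := 5) (j := 6) (by norm_num) (by norm_num) (by norm_num) (by norm_num) (by decide)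
  have b67 := hbr (i := 6) (j := 7) (by norm_num) (by norm_num) (by norm_num) (by norm_num) (by decide)
  have b510 := hbr (i := 5) (j := 10) (by norm_num) (by norm_num) (by norm_num) (by norm_num) (by decide)
  have b1011 := hbr (i := 10) (j := 11) (by norm_num) (by norm_num) (by norm_num) (by norm_num) (by decide)
  -- the seven fix both members
  have hf2 : Fx p q (e 2) := by
    refine c2.resolve_right fun s2 => hne ?_
    have s3 := sw_of_braid hne s2 c3 b23
    have s4 := sw_of_braid hne s3 c4 b34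
    have s5 := sw_of_braid hne s4 c5 b45
    have s6 := sw_of_braid hne s5 c6 b56
    have s7 := sw_of_braid hne s6 c7 b67
    have s10 := sw_of_braid hne s5 c10 b510
    have f6 := sw_mul_sw (sw_mul_fx s2 (sw_mul_sw s3 s4)) (sw_mul_fx s5 (sw_mul_sw s6 s7))
    have s := fx_mul_sw f6 s10
    set z := e 2 * (e 3 * e 4) * (e 5 * (e 6 * e 7)) * e 10 with hz
    have z2 := sw_mul_sw s s
    have z9 := fx_mul_sw (fx_mul_fx (fx_mul_fx z2 z2) (fx_mul_fx z2 z2)) s
    have h1 : z * z * (z * z) * (z * z * (z * z)) * z = 1 := by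
      have := congrArg (fun y : ↥C24 => (φ y : G24)) eC_seven
      simp only [map_pow, map_mul, map_one, SubmonoidClass.coe_pow, Subgroup.coe_mul, Subgroup.coe_one] at this
      rw [show z * z * (z * z) * (z * z * (z * z)) * z = z ^ 9 by simp only [pow_succ, pow_zero, one_mul, mul_assoc],
        hz]
      simpa only [he, mul_assoc] using this
    rw [h1] at z9
    simpa [Sw] using z9.1
  have hf3 := fx_of_braid hne hf2 c3 b23
  have hf4 := fx_of_braid hne hf3 c4 b34
  have hf5 := fx_of_braid hne hf4 c5 b45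
  have hf6 := fx_of_braid hne hf5 c6 b56
  have hf7 := fx_of_braid hne hf6 c7 b67
  have hf10 := fx_of_braid hne hf5 c10 b510
  have hf11 := fx_of_braid hne hf10 c11 b1011
  -- the second support
  obtain ⟨r, hr, s, hs, e2⟩ := isProd_two_iff.1 (hP (i := 2) le_rfl (by norm_num))
  have k1 : Commute p r ∧ Commute p s := commute_of_fix S hp hr hs (e2 ▸ hf2.1)
  have k2 : Commute q r ∧ Commute q s := commute_of_fix S hq.1 hr hs (e2 ▸ hf2.2)
  have hshare : p = r ∨ p = s ∨ q = r ∨ q = s := by
    refine share_member S hp hq hr hs k1.1 k1.2 k2.1 k2.2 ?_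
    rw [← e9, ← e2]
    have := map_pair φ (x := eC 9 * eC 2) (by
      show IsProd D24 2 (x24 0 * x24 9 * (x24 0 * x24 2))
      rw [lx_mul (by norm_num) (by norm_num)]
      refine isProd_two (act24.el_class (by norm_num)) ⟨act24.el_class (by norm_num), fun e => ?_,
        x24_comm (by norm_num) (by norm_num) (by decide)⟩
      have hb := x24_pow (show 2 < 12 by norm_num) (show 3 < 12 by norm_num)
      have hc := x24_comm (show 9 < 12 by norm_num) (show 3 < 12 by norm_num) (by decide)
      rw [← e] at hc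
      rw [show lab24 2 3 = 3 by decide, hc.mul_pow, pow_succ, pow_two, x24_sq (by norm_num), one_mul, pow_succ,
        pow_two, x24_sq (show 3 < 12 by norm_num), one_mul] at hb
      have h32 : x24 3 = x24 2 := by
        rw [← x24_inv (show 2 < 12 by norm_num)]; exact eq_inv_of_mul_eq_one_right hb
      have hz := x24_pow (show 3 < 12 by norm_num) (show 4 < 12 by norm_num)
      have h24 := x24_comm (show 2 < 12 by norm_num) (show 4 < 12 by norm_num) (by decide)
      rw [← h32] at h24
      rw [show lab24 3 4 = 3 by decide, h24.mul_pow, pow_succ, pow_two, x24_sq (show 3 < 12 by norm_num), one_mul,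
        pow_succ, pow_two, x24_sq (show 4 < 12 by norm_num), one_mul] at hz
      have h43 : x24 4 = x24 3 := by
        rw [← x24_inv (show 3 < 12 by norm_num)]; exact eq_inv_of_mul_eq_one_right hz
      have hy := x24_pow (show 1 < 12 by norm_num) (show 2 < 12 by norm_num)
      have h14 := x24_comm (show 1 < 12 by norm_num) (show 4 < 12 by norm_num) (by decide)
      rw [h43, h32] at h14
      rw [show lab24 1 2 = 3 by decide, h14.mul_pow, pow_succ, pow_two, x24_sq (show 1 < 12 by norm_num), one_mul,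
        pow_succ, pow_two, x24_sq (show 2 < 12 by norm_num), one_mul] at hy
      refine act24.nc ?_
      rw [eq_inv_of_mul_eq_one_left hy, x24_inv (by norm_num)]
      exact comm_zero le_rfl (by norm_num))
    simpa [he] using this
  -- g fixes both members of the second support
  have cases2 : Fx r s (e 8) ∨ Sw r s (e 8) := by
    have := hcm (i := 8) (by norm_num) (by norm_num) le_rfl (by norm_num : 2 < 12) (by decide)
    rw [e2] at this
    exact fix_or_swap S hr hs this
  have hf9 : Fx r s (e 9) := by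
    rw [e9]
    exact ⟨mul_inv_eq_iff_eq_mul.2 (k1.1.mul_left k2.1).eq, mul_inv_eq_iff_eq_mul.2 (k1.2.mul_left k2.2).eq⟩
  have hf8 : Fx r s (e 8) := fx_of_braid hs.2.1.symm hf9 cases2
    (hbr (by norm_num) (by norm_num) (by norm_num) (by norm_num) (by decide))
  have done : ∀ t, Fx t t (e 9) → Fx t t (e 2) → Fx t t (e 3) → Fx t t (e 4) → Fx t t (e 5) → Fx t t (e 6) →
      Fx t t (e 7) → Fx t t (e 10) → Fx t t (e 11) → Fx t t (e 8) →
      ∀ i, 2 ≤ i → i < 12 → Commute (e i) t := by
    intro t a9 a2 a3 a4 a5 a6 a7 a10 a11 a8 i h2 hi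
    have key : Fx t t (e i) := by interval_cases i; exacts [a2, a3, a4, a5, a6, a7, a8, a9, a10, a11]
    exact mul_inv_eq_iff_eq_mul.1 key.1
  have self9p : Fx p p (e 9) := by
    rw [e9]
    have := mul_inv_eq_iff_eq_mul.2 ((Commute.refl p).mul_left hq.2.2.symm).eq
    exact ⟨this, this⟩
  have self9q : Fx q q (e 9) := by
    rw [e9]
    have := mul_inv_eq_iff_eq_mul.2 (hq.2.2.mul_left (Commute.refl q)).eq
    exact ⟨this, this⟩
  have top : ∀ {g}, Fx p q g → Fx p p g ∧ Fx q q g := fun {g} h => ⟨⟨h.1, h.1⟩, h.2, h.2⟩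
  have hpall : p = r ∨ p = s → ∀ i, 2 ≤ i → i < 12 → Commute (e i) p := fun h => done p self9p (top hf2).1
    (top hf3).1 (top hf4).1 (top hf5).1 (top hf6).1 (top hf7).1 (top hf10).1 (top hf11).1 (by
      rcases h with rfl | rfl
      exacts [⟨hf8.1, hf8.1⟩, ⟨hf8.2, hf8.2⟩])
  have hqall : q = r ∨ q = s → ∀ i, 2 ≤ i → i < 12 → Commute (e i) q := fun h => done q self9q (top hf2).2
    (top hf3).2 (top hf4).2 (top hf5).2 (top hf6).2 (top hf7).2 (top hf10).2 (top hf11).2 (by
      rcases h with rfl | rfl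
      exacts [⟨hf8.1, hf8.1⟩, ⟨hf8.2, hf8.2⟩])
  rcases hshare with h | h | h | h
  · exact ⟨p, hp, hpall (Or.inl h)⟩
  · exact ⟨p, hp, hpall (Or.inr h)⟩
  · exact ⟨q, hq.1, hqall (Or.inl h)⟩
  · exact ⟨q, hq.1, hqall (Or.inr h)⟩

/-- Conjugation on the even elements. -/
noncomputable abbrev θ24 : G24 →* MulAut ↥C24 := MulAut.conjNormal

theorem θ24_apply (u : G24) (h : ↥C24) : (θ24 u h : G24) = u * h * u⁻¹ := MulAut.conjNormal_apply u h

/-! ### An automorphism can be made to fix the copy of Fi23 -/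

/-- The generators of Fi23 inside the even elements. -/
def K23 : Subgroup G24 := Subgroup.closure ((fun i => (eC i : G24)) '' {i | 2 ≤ i ∧ i < 12})

theorem H23_le : H23 ≤ K23 := by
  have s0 := x24_sq (show 0 < 12 by norm_num)
  have key : ∀ g ∈ hsub x24, g ∈ K23 ∨ x24 0 * g ∈ K23 := by
    intro g hg
    induction hg using Subgroup.closure_induction with
    | mem x hx => obtain ⟨i, hi, rfl⟩ := hx; exact Or.inr (Subgroup.subset_closure ⟨i, hi, rfl⟩)
    | one => exact Or.inl (one_mem _)
    | mul x y hx _ ihx ihy =>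
      have hc : Commute (x24 0) x := gen24_x.first_comm hx
      rcases ihx with a | a <;> rcases ihy with b | b
      · exact Or.inl (mul_mem a b)
      · refine Or.inr ?_
        have := mul_mem a b
        rwa [← mul_assoc, ← hc.eq, mul_assoc] at this
      · refine Or.inr ?_
        have := mul_mem a b
        rwa [mul_assoc] at this
      · refine Or.inl ?_
        have := mul_mem a b
        rwa [hc.eq, mul_assoc, ← mul_assoc (x24 0), s0, one_mul] at this
    | inv x hx ihx =>
      rcases ihx with a | a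
      · exact Or.inl (inv_mem a)
      · refine Or.inr ?_
        have hc : Commute (x24 0) x := gen24_x.first_comm hx
        have := inv_mem a
        rwa [hc.eq, mul_inv_rev, x24_inv (by norm_num)] at this
  intro g hg
  refine (key g (mem_H23.1 hg).1).resolve_right fun h => ?_
  have hK : K23 ≤ C24 := (Subgroup.closure_le _).2 fun _ ⟨i, _, e⟩ => e ▸ (eC i).2
  have := mem_C24.1 (hK h)
  rw [map_mul, sign24_x, (mem_H23.1 hg).2] at this
  exact absurd this (by decide)

/-- Some translate maps Fi23 to itself. -/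
theorem map_H23 (φ : MulAut ↥C24) : ∃ u : G24, ∀ (h : ↥C24), (h : G24) ∈ H23 →
    ((θ24 u * φ) h : G24) ∈ H23 := by
  obtain ⟨p, hp, hcomm⟩ := common_member φ
  obtain ⟨g, rfl⟩ := isConj_iff.1 (show IsConj (x24 0) p from hp)
  refine ⟨g⁻¹, fun h hh => ?_⟩
  have hS : K23 ≤ ((Subgroup.centralizer {g * x24 0 * g⁻¹}).comap
      (C24.subtype.comp φ.toMonoidHom)).map C24.subtype := by
    refine (Subgroup.closure_le _).2 ?_
    rintro _ ⟨i, ⟨h2, hi⟩, rfl⟩
    refine ⟨eC i, ?_, rfl⟩
    simp only [SetLike.mem_coe, Subgroup.mem_comap, Subgroup.mem_centralizer_iff, Set.mem_singleton_iff]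
    rintro _ rfl
    exact (hcomm i h2 hi).eq.symm
  obtain ⟨h', hh', e⟩ := hS (H23_le hh)
  obtain rfl : h' = h := Subtype.ext e
  have hcp : Commute (φ h' : G24) (g * x24 0 * g⁻¹) := (Subgroup.mem_centralizer_iff.1 hh' _ rfl).symm
  have hv : ((θ24 g⁻¹ * φ) h' : G24) = g⁻¹ * (φ h' : G24) * g := by
    rw [MulAut.mul_apply, θ24_apply, inv_inv]
  refine mem_H23.2 ⟨(stab24 _).1 ?_, mem_C24.1 ((θ24 g⁻¹ * φ) h').2⟩
  rw [hv, map_mul, map_mul, map_inv, Equiv.Perm.mul_apply, Equiv.Perm.mul_apply, commute_iff_fix.1 hcp]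
  exact (rho24 g).symm_apply_apply p24

/-- Fi23 in the two forms. -/
theorem exists_iso23 : Nonempty (↥H23 ≃* CosetEnum.fi23Setup.G) := by
  let f : ↥H23 →* CosetEnum.fi23Setup.G := gen24_x.toFi23.comp (Subgroup.inclusion inf_le_left)
  have hinj : Function.Injective f := by
    rw [← MonoidHom.ker_eq_bot_iff, eq_bot_iff]
    intro g hg
    have hk : (Subgroup.inclusion (inf_le_left : H23 ≤ hsub x24) g) ∈ gen24_x.toFi23.ker := hg
    rw [gen24_x.toFi23_ker_zsub] at hk
    rcases gen24_x.mem_zsub hk with h | h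
    · exact Subtype.ext h
    · have h1 : sign24 (x24 0) = 1 := by rw [← h]; exact (mem_H23.1 g.2).2
      exact absurd (h1.symm.trans (sign24_x 0)) (by decide)
  refine ⟨MulEquiv.ofBijective f ⟨hinj, fun y => ?_⟩⟩
  obtain ⟨⟨h, hh⟩, rfl⟩ := gen24_x.toFi23_surj y
  rcases sign24_cases h with hp | hn
  · exact ⟨⟨h, mem_H23.2 ⟨hh, hp⟩⟩, rfl⟩
  · refine ⟨⟨h * x24 0, mem_H23.2 ⟨mul_mem hh gen24_x.first_mem, by rw [map_mul, hn, sign24_x]; decide⟩⟩, ?_⟩
    show gen24_x.toFi23 (⟨h, hh⟩ * gen24_x.first) = _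
    have hz : gen24_x.first ∈ gen24_x.toFi23.ker := by
      rw [gen24_x.toFi23_ker_zsub]; exact Subgroup.mem_zpowers _
    rw [map_mul, MonoidHom.mem_ker.1 hz, mul_one]

/-- Some translate fixes Fi23 pointwise. -/
theorem exists_pointwise (φ : MulAut ↥C24) : ∃ u : G24, ∀ (h : ↥C24), (h : G24) ∈ H23 →
    (θ24 u * φ) h = h := by
  haveI : Finite G24 := finite_G24
  obtain ⟨u, hu⟩ := map_H23 φ
  have hle : H23 ≤ C24 := inf_le_right
  set ψ : MulAut ↥C24 := θ24 u * φ with hψ
  let α : ↥H23 →* ↥H23 :=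
    { toFun := fun h => ⟨(ψ ⟨h, hle h.2⟩ : G24), hu _ h.2⟩
      map_one' := Subtype.ext (congrArg Subtype.val (map_one ψ) :)
      map_mul' := fun a b => Subtype.ext (congrArg Subtype.val (map_mul ψ ⟨a, hle a.2⟩ ⟨b, hle b.2⟩) :) }
  have hinj : Function.Injective α := fun a b e =>
    Subtype.ext (congrArg Subtype.val (ψ.injective (Subtype.ext (congrArg Subtype.val e :))) :)
  let αe : MulAut ↥H23 := MulEquiv.ofBijective α ⟨hinj, Finite.injective_iff_surjective.1 hinj⟩
  obtain ⟨e⟩ := exists_iso23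
  haveI := (Nat.card_eq_one_iff_unique.1 Fi23Aut.card_out).1
  obtain ⟨c, hc⟩ := (QuotientGroup.eq_one_iff (N := Cfsg.Inn CosetEnum.fi23Setup.G) ((e.symm.trans αe).trans e)).1
    (Subsingleton.elim _ _)
  set d : G24 := (e.symm c : G24) with hd
  have hα : ∀ h : ↥H23, (αe h : G24) = d * h * d⁻¹ := by
    intro h
    have := congrArg (fun f : MulAut CosetEnum.fi23Setup.G => e.symm (f (e h))) hc
    simp only [MulAut.conj_apply, MulEquiv.trans_apply, MulEquiv.symm_apply_apply, map_mul, map_inv] at this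
    rw [← this]
    rfl
  refine ⟨d⁻¹ * u, fun h hh => Subtype.ext ?_⟩
  have h2 : (ψ h : G24) = d * h * d⁻¹ := hα ⟨h, hh⟩
  show ((θ24 (d⁻¹ * u) * φ) h : G24) = h
  rw [map_mul, mul_assoc, ← hψ, MulAut.mul_apply, θ24_apply, h2]
  group

/-! ### An automorphism fixing Fi23 pointwise -/

theorem fixed_bit {q : Fin fi24c.n} {ws : List (List ℕ)} {B : ℕ} (hB : Nat.beq (fixWords fi24c ws) B = true)
    (hw : ∀ w ∈ ws, ∀ a ∈ w, a < 12) (h : ∀ w ∈ ws, rho24 (ev x24 w) q = q) : B.testBit q = true := by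
  rw [← Nat.eq_of_beq_eq_true hB]
  exact fixWords_fixed perms24 ws hw q.2 fun w hm => by rw [← rho24_word w (hw w hm), h w hm]

theorem lt_of_bit {B q n : ℕ} (hB : B < 2 ^ n) (h : B.testBit q = true) : q < n := by
  by_contra hq
  rw [Nat.testBit_lt_two_pow (hB.trans_le (Nat.pow_le_pow_right (by norm_num) (not_lt.1 hq)))] at h
  exact Bool.false_ne_true h

theorem ev_two (a b : ℕ) : ev x24 [a, b] = x24 b * x24 a := by simp [ev]

theorem mem_pairWords {a : ℕ} {l : List ℕ} {w : List ℕ} (h : w ∈ pairWords a l) : ∃ i ∈ l, w = [a, i] := by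
  obtain ⟨i, hi, rfl⟩ := List.mem_map.1 h
  exact ⟨i, hi, rfl⟩

theorem pairWords_lt {a : ℕ} {l : List ℕ} (ha : a < 12) (hl : ∀ i ∈ l, i < 12) :
    ∀ w ∈ pairWords a l, ∀ b ∈ w, b < 12 := by
  intro w hw b hb
  obtain ⟨i, hi, rfl⟩ := mem_pairWords hw
  simp only [List.mem_cons, List.not_mem_nil, or_false] at hb
  rcases hb with rfl | rfl
  exacts [ha, hl _ hi]

theorem lab_far {i : ℕ} (h3 : 3 ≤ i) (hi : i < 12) : lab24 1 i = 2 := by interval_cases i <;> decide

theorem lab_two {i : ℕ} (h4 : 4 ≤ i) (hi : i < 12) : lab24 2 i = 2 := by interval_cases i <;> decide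

theorem lab_three {i : ℕ} (h5 : 5 ≤ i) (hi : i < 12) : lab24 3 i = 2 := by interval_cases i <;> decide

theorem far_comm {i : ℕ} (h3 : 3 ≤ i) (hi : i < 12) : Commute (farG x24) (x24 i) :=
  Commute.mul_left (comm_zero (by omega) hi) (x24_comm (by norm_num) hi (lab_far h3 hi))

/-- The points used below. -/
theorem pts_facts :
    (rho24 (farG x24) p24 : ℕ) = 2 ∧ (rho24 (farG x24 * farG x24) p24 : ℕ) = 1 ∧
    (rho24 (nearG x24) p24 : ℕ) = 6 ∧ (rho24 (x24 2 * x24 3 * nearG x24) p24 : ℕ) = 12 := by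
  have h := small_points
  simp only [Bool.and_eq_true] at h
  obtain ⟨h2, h6, h12, h1, -⟩ := h
  refine ⟨?_, ?_, ?_, ?_⟩
  · rw [← word_far, rho24_word [1, 0] (by simp)]; exact Nat.eq_of_beq_eq_true h2
  · rw [show farG x24 * farG x24 = ev x24 [1, 0, 1, 0] by simp [ev, farG, mul_assoc],
      rho24_word [1, 0, 1, 0] (by simp)]; exact Nat.eq_of_beq_eq_true h1
  · rw [← word_near, rho24_word [1, 0, 2, 1] (by simp)]; exact Nat.eq_of_beq_eq_true h6
  · rw [show x24 2 * x24 3 * nearG x24 = ev x24 [1, 0, 2, 1, 3, 2] by simp [ev, nearG, mul_assoc],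
      rho24_word [1, 0, 2, 1, 3, 2] (by simp)]; exact Nat.eq_of_beq_eq_true h12

theorem conj_three : x24 2 * x24 3 * nearG x24 * x24 0 * (x24 2 * x24 3 * nearG x24)⁻¹ = x24 3 := by
  rw [conj_two, act24.near_conj]
  exact (FischerExist.conj_of_braid (x24_sq (by norm_num)) (x24_sq (by norm_num))
    (show (x24 2 * x24 3) ^ 3 = 1 from x24_pow (a := 2) (b := 3) (by norm_num) (by norm_num))).symm

/-- The image of an element at a point fixed by the pairs. -/
theorem image_small (ψ : MulAut ↥C24) (hψ : ∀ h : ↥C24, (h : G24) ∈ H23 → ψ h = h) (y : ↥C24)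
    (hy : ∀ i, 3 ≤ i → i < 12 → Commute (y : G24) (x24 i)) :
    (rho24 (ψ y : G24) p24 : ℕ) < 3 ∧ ∀ i, 4 ≤ i → i < 12 → Commute (ψ y : G24) (x24 i * x24 3) := by
  have hc : ∀ i, 4 ≤ i → i < 12 → Commute (ψ y : G24) (x24 i * x24 3) := by
    intro i h4 hi
    have hm : x24 i * x24 3 ∈ H23 := pair_mem_H23 hi (by norm_num) (by omega) (by norm_num)
    have hC : x24 i * x24 3 ∈ C24 := mem_C24.2 (mem_H23.1 hm).2
    have : Commute y (⟨_, hC⟩ : ↥C24) :=
      Subtype.ext ((hy i (by omega) hi).mul_right (hy 3 le_rfl (by norm_num))).eq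
    have := (this.map ψ.toMonoidHom).map C24.subtype
    rwa [show ψ.toMonoidHom ⟨_, hC⟩ = (⟨_, hC⟩ : ↥C24) from hψ _ hm] at this
  refine ⟨?_, hc⟩
  refine lt_of_bit (n := 3) (by norm_num) (fixed_bit fixed_all (pairWords_lt (by norm_num) (by decide)) ?_)
  intro w hw
  obtain ⟨i, hi, rfl⟩ := mem_pairWords hw
  obtain ⟨h4, hi'⟩ : 4 ≤ i ∧ i < 12 := by revert i; decide
  rw [ev_two, ← Equiv.Perm.mul_apply, ← map_mul, ← (hc i h4 hi').eq, map_mul, Equiv.Perm.mul_apply,
    (stab24 _).2 (mem_H23.1 (pair_mem_H23 hi' (by norm_num) (by omega) (by norm_num))).1]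

theorem pointwise_far (ψ : MulAut ↥C24) (hψ : ∀ h : ↥C24, (h : G24) ∈ H23 → ψ h = h) (g : ↥C24)
    (hg : (g : G24) = farG x24) (hq : (rho24 (ψ g : G24) p24 : ℕ) = 2) : ψ = 1 := by
  haveI : Finite G24 := finite_G24
  obtain ⟨hp2, hp1, hp6, hp12⟩ := pts_facts
  have hgc : ∀ i, 3 ≤ i → i < 12 → Commute (g : G24) (x24 i) := fun i a b => hg ▸ far_comm a b
  set v : G24 := (farG x24)⁻¹ * (ψ g : G24) with hv
  have hv0 : rho24 v p24 = p24 := by
    have : rho24 (ψ g : G24) p24 = rho24 (farG x24) p24 := Fin.ext (hq.trans hp2.symm)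
    rw [hv, map_mul, map_inv, Equiv.Perm.mul_apply, this]
    exact (rho24 (farG x24)).symm_apply_apply p24
  have hmul : (ψ g : G24) = farG x24 * v := by rw [hv, mul_inv_cancel_left]
  have hvs : sign24 v = 1 := by
    rw [hv, map_mul, map_inv, ← hg, mem_C24.1 g.2, mem_C24.1 (ψ g).2]; simp
  have hvH : v ∈ H23 := mem_H23.2 ⟨(stab24 _).1 hv0, hvs⟩
  have hvp : ∀ i, 4 ≤ i → i < 12 → Commute v (x24 i * x24 3) := fun i a b =>
    Commute.mul_left (((far_comm (by omega) b).mul_right (far_comm le_rfl (by norm_num))).inv_left)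
      ((image_small ψ hψ g hgc).2 i a b)
  clear_value v
  -- point two
  have hv2 : rho24 v (rho24 (farG x24) p24) = rho24 (farG x24) p24 := by
    have hs := (image_small ψ hψ (g * g) fun i a b => (hgc i a b).mul_left (hgc i a b)).1
    have h0 : rho24 (ψ (g * g) : G24) p24 ≠ p24 := by
      intro h
      have hH : (ψ (g * g) : G24) ∈ H23 := mem_H23.2 ⟨(stab24 _).1 h, mem_C24.1 (ψ _).2⟩
      have e := congrArg Subtype.val (ψ.injective (hψ _ hH))
      rw [e, Subgroup.coe_mul, hg] at h
      have := congrArg Fin.val h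
      rw [hp1] at this
      exact absurd this (by norm_num)
    have h2 : rho24 (ψ (g * g) : G24) p24 ≠ rho24 (farG x24) p24 := by
      rw [map_mul, Subgroup.coe_mul, map_mul, Equiv.Perm.mul_apply]
      intro h
      have e : rho24 (ψ g : G24) p24 = rho24 (farG x24) p24 := Fin.ext (hq.trans hp2.symm)
      have := congrArg Fin.val ((rho24 (ψ g : G24)).injective (h.trans e.symm))
      rw [hq] at this
      exact absurd this (show 2 ≠ 0 by norm_num)
    have hval : (rho24 (ψ (g * g) : G24) p24 : ℕ) = 1 := by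
      have a : (rho24 (ψ (g * g) : G24) p24 : ℕ) ≠ 0 := fun h => h0 (Fin.ext h)
      have b : (rho24 (ψ (g * g) : G24) p24 : ℕ) ≠ 2 := fun h => h2 (Fin.ext (h.trans hp2.symm))
      omega
    have e : rho24 (ψ (g * g) : G24) p24 = rho24 (farG x24 * farG x24) p24 := Fin.ext (hval.trans hp1.symm)
    rw [map_mul, Subgroup.coe_mul, map_mul, Equiv.Perm.mul_apply, hmul, map_mul, Equiv.Perm.mul_apply,
      Equiv.Perm.mul_apply, hv0, map_mul, Equiv.Perm.mul_apply] at e
    exact (rho24 (farG x24)).injective e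
  have hv1 : rho24 v (rho24 (farG x24 * farG x24) p24) = rho24 (farG x24 * farG x24) p24 := by
    have hfix : ∀ w ∈ pairWords 3 [4, 5, 6, 7, 8, 9, 10, 11],
        rho24 (ev x24 w) (rho24 v (rho24 (farG x24 * farG x24) p24)) = rho24 v (rho24 (farG x24 * farG x24) p24) := by
      intro w hw
      obtain ⟨i, hi, rfl⟩ := mem_pairWords hw
      obtain ⟨h4, hi'⟩ : 4 ≤ i ∧ i < 12 := by revert i; decide
      have c := (far_comm (i := i) (by omega) hi').mul_right (far_comm le_rfl (by norm_num))
      rw [ev_two, ← Equiv.Perm.mul_apply, ← map_mul, ← (hvp i h4 hi').eq, map_mul, Equiv.Perm.mul_apply,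
        ← Equiv.Perm.mul_apply, ← map_mul, ← Equiv.Perm.mul_apply, ← map_mul,
        mul_assoc v, ← (c.mul_left c).eq, map_mul rho24 v, Equiv.Perm.mul_apply,
        map_mul rho24 (farG x24 * farG x24), Equiv.Perm.mul_apply,
        (stab24 _).2 (mem_H23.1 (pair_mem_H23 hi' (by norm_num) (by omega) (by norm_num))).1]
    have hlt := lt_of_bit (n := 3) (by norm_num) (fixed_bit fixed_all (pairWords_lt (by norm_num) (by decide)) hfix)
    refine Fin.ext (hp1.symm ▸ ?_)
    have a : (rho24 v (rho24 (farG x24 * farG x24) p24) : ℕ) ≠ 0 := fun h => by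
      have := congrArg Fin.val ((rho24 v).injective ((Fin.ext h : _ = p24).trans hv0.symm))
      rw [hp1] at this
      exact absurd this (show 1 ≠ 0 by norm_num)
    have b : (rho24 v (rho24 (farG x24 * farG x24) p24) : ℕ) ≠ 2 := fun h => by
      have := congrArg Fin.val ((rho24 v).injective ((Fin.ext (h.trans hp2.symm) : _ = _).trans hv2.symm))
      rw [hp1, hp2] at this
      exact absurd this (show 1 ≠ 2 by norm_num)
    omega
  -- images of the points in small fixed sets avoid the three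
  have avoid : ∀ {q : Fin fi24c.n}, 3 ≤ (q : ℕ) → 3 ≤ (rho24 v q : ℕ) := fun {q} hq3 => by
    by_contra hlt
    have cases3 : rho24 v q = p24 ∨ rho24 v q = rho24 (farG x24 * farG x24) p24 ∨
        rho24 v q = rho24 (farG x24) p24 := by
      rcases (show (rho24 v q : ℕ) = 0 ∨ (rho24 v q : ℕ) = 1 ∨ (rho24 v q : ℕ) = 2 by omega) with h | h | h
      exacts [Or.inl (Fin.ext h), Or.inr (Or.inl (Fin.ext (h.trans hp1.symm))),
        Or.inr (Or.inr (Fin.ext (h.trans hp2.symm)))]
    rcases cases3 with h | h | h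
    · have := congrArg Fin.val ((rho24 v).injective (h.trans hv0.symm))
      rw [this] at hq3
      exact absurd hq3 (show ¬ 3 ≤ 0 by norm_num)
    · have := congrArg Fin.val ((rho24 v).injective (h.trans hv1.symm))
      rw [this, hp1] at hq3
      omega
    · have := congrArg Fin.val ((rho24 v).injective (h.trans hv2.symm))
      rw [this, hp2] at hq3
      omega
  have hv3 : Commute v (x24 3) := by
    have hu := conj_three
    set u := x24 2 * x24 3 * nearG x24 with hudef
    have hfix : ∀ w ∈ pairWords 3 [5, 6, 7, 8, 9, 10, 11],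
        rho24 (ev x24 w) (rho24 v (rho24 u p24)) = rho24 v (rho24 u p24) := by
      intro w hw
      obtain ⟨i, hi, rfl⟩ := mem_pairWords hw
      obtain ⟨h5, hi'⟩ : 5 ≤ i ∧ i < 12 := by revert i; decide
      have c : Commute (x24 i * x24 3) (u * x24 0 * u⁻¹) := by
        rw [hu]
        exact ((x24_comm (by norm_num) hi' (lab_three h5 hi')).symm).mul_left (Commute.refl _)
      rw [ev_two, ← Equiv.Perm.mul_apply, ← map_mul, ← (hvp i (by omega) hi').eq, map_mul, Equiv.Perm.mul_apply,
        commute_iff_fix.1 c]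
    have hb := fixed_bit fixed_omit_c (pairWords_lt (by norm_num) (by decide)) hfix
    have hlt := lt_of_bit (n := 13) (by norm_num) hb
    have h3 := avoid (q := rho24 u p24) (by rw [hp12]; norm_num)
    have h12 : (rho24 v (rho24 u p24) : ℕ) = 12 := by
      generalize (rho24 v (rho24 u p24) : ℕ) = j at hb hlt h3
      interval_cases j <;> first | rfl | exact absurd hb (by decide)
    exact hu ▸ commute_iff_fix.2 (Fin.ext (h12.trans hp12.symm))
  have hvi : ∀ i, 3 ≤ i → i < 12 → Commute v (x24 i) := fun i h3 hi => by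
    rcases Nat.eq_or_lt_of_le h3 with rfl | h
    · exact hv3
    · have := (hvp i h hi).mul_right hv3
      rwa [mul_assoc, x24_sq (by norm_num), mul_one] at this
  have hvz : Commute v (x24 0) := (gen24_x.first_comm (mem_H23.1 hvH).1).symm
  have hv6 : Commute v (x24 2) := by
    have hu := act24.near_conj
    set u := nearG x24 with hudef
    have hfix : ∀ w ∈ pairWords 4 [5, 6, 7, 8, 9, 10, 11],
        rho24 (ev x24 w) (rho24 v (rho24 u p24)) = rho24 v (rho24 u p24) := by
      intro w hw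
      obtain ⟨i, hi, rfl⟩ := mem_pairWords hw
      obtain ⟨h5, hi'⟩ : 5 ≤ i ∧ i < 12 := by revert i; decide
      have c : Commute (x24 i * x24 4) (u * x24 0 * u⁻¹) := by
        rw [hu]
        exact ((x24_comm (by norm_num) hi' (lab_two (by omega) hi')).symm).mul_left
          (x24_comm (by norm_num) (by norm_num) (lab_two le_rfl (by norm_num))).symm
      rw [ev_two, ← Equiv.Perm.mul_apply, ← map_mul,
        ← ((hvi i (by omega) hi').mul_right (hvi 4 (by norm_num) (by norm_num))).eq, map_mul, Equiv.Perm.mul_apply,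
        commute_iff_fix.1 c]
    have hb := fixed_bit fixed_omit_b (pairWords_lt (by norm_num) (by decide)) hfix
    have hlt := lt_of_bit (n := 7) (by norm_num) hb
    have h3 := avoid (q := rho24 u p24) (by rw [hp6]; norm_num)
    have h0 : fi24c.act 0 (rho24 v (rho24 u p24) : ℕ) = (rho24 v (rho24 u p24) : ℕ) := by
      have c : Commute (x24 0) (u * x24 0 * u⁻¹) := by rw [hu]; exact comm_zero le_rfl (by norm_num)
      rw [← rho24_val (by norm_num), ← Equiv.Perm.mul_apply, ← map_mul, ← hvz.eq, map_mul, Equiv.Perm.mul_apply,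
        commute_iff_fix.1 c]
    have h6 : (rho24 v (rho24 u p24) : ℕ) = 6 := by
      have hs := small_acts
      simp only [Bool.and_eq_true, Bool.not_eq_true'] at hs
      obtain ⟨-, -, hs3, hs4, -⟩ := hs
      generalize (rho24 v (rho24 u p24) : ℕ) = j at hb hlt h3 h0
      interval_cases j
      · rw [h0, Nat.beq_refl] at hs3; exact absurd hs3 (by decide)
      · rw [h0, Nat.beq_refl] at hs4; exact absurd hs4 (by decide)
      · exact absurd hb (by decide)
      · rfl
    exact hu ▸ commute_iff_fix.2 (Fin.ext (h6.trans hp6.symm))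
  have hv1' : Commute v (x24 1) := act24.far_conj ▸ commute_iff_fix.2 hv2
  have hone : v = 1 := by
    have hcen : v ∈ Subgroup.center G24 := by
      rw [Subgroup.mem_center_iff]
      intro y
      have hy : y ∈ Subgroup.closure (x24 '' {a | a < 12}) := by rw [gens24]; trivial
      suffices Commute v y from this.eq.symm
      induction hy using Subgroup.closure_induction with
      | mem x hx =>
        obtain ⟨a, ha, rfl⟩ := hx
        rcases Nat.lt_or_ge a 3 with h | h
        · interval_cases a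
          exacts [hvz, hv1', hv6]
        · exact hvi a h ha
      | one => exact Commute.one_right _
      | mul x y _ _ a b => exact a.mul_right b
      | inv x _ a => exact a.inv_right
    rw [act24.center_eq_bot] at hcen
    exact hcen
  have hgfix : ψ g = g := Subtype.ext (by rw [hmul, hone, mul_one, hg])
  let F : Subgroup ↥C24 := ψ.toMonoidHom.eqLocus (MonoidHom.id _)
  have hle : C24 ≤ F.map C24.subtype := by
    refine even_le_of_moves (fun h hh => ⟨⟨h, mem_C24.2 (mem_H23.1 hh).2⟩, hψ _ hh, rfl⟩)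
      (Subgroup.mem_map_of_mem C24.subtype (show g ∈ F from hgfix)) (mem_C24.1 g.2) ?_
    intro h
    have := congrArg Fin.val h
    rw [show C24.subtype g = farG x24 from hg, hp2] at this
    exact absurd this (show 2 ≠ 0 by norm_num)
  refine MulEquiv.ext fun x => ?_
  obtain ⟨y, hy, e⟩ := hle x.2
  rw [← (Subtype.ext e : y = x)]
  exact hy

/-- Every automorphism is a conjugation in Fi24. -/
theorem exists_conj (φ : MulAut ↥C24) : ∃ u : G24, θ24 u = φ := by
  suffices ∃ u : G24, θ24 u * φ = 1 by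
    obtain ⟨u, hu⟩ := this
    exact ⟨u⁻¹, by rw [map_inv]; exact (eq_inv_of_mul_eq_one_right hu).symm⟩
  obtain ⟨u, hu⟩ := exists_pointwise φ
  set ψ : MulAut ↥C24 := θ24 u * φ with hψ
  obtain ⟨hp2, -, -, -⟩ := pts_facts
  let g : ↥C24 := ⟨farG x24, mem_C24.2 (MonoidHom.mem_ker.1 pair_mem)⟩
  have hlt := (image_small ψ hu g fun i a b => far_comm a b).1
  have h0 : (rho24 (ψ g : G24) p24 : ℕ) ≠ 0 := by
    intro h
    have hH : (ψ g : G24) ∈ H23 := mem_H23.2 ⟨(stab24 _).1 (Fin.ext h), mem_C24.1 (ψ g).2⟩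
    rw [ψ.injective (hu _ hH)] at h
    exact absurd (hp2.symm.trans h) (by norm_num)
  rcases (show (rho24 (ψ g : G24) p24 : ℕ) = 2 ∨ (rho24 (ψ g : G24) p24 : ℕ) = 1 by omega) with h | h
  · exact ⟨u, pointwise_far ψ hu g rfl h⟩
  · refine ⟨x24 0 * u, ?_⟩
    rw [map_mul, mul_assoc, ← hψ]
    refine pointwise_far _ (fun y hy => ?_) g rfl ?_
    · rw [MulAut.mul_apply, hu y hy]
      refine Subtype.ext ?_
      rw [θ24_apply, (gen24_x.first_comm (mem_H23.1 hy).1).eq, mul_inv_cancel_right]
    · rw [MulAut.mul_apply, θ24_apply, map_mul, map_mul, Equiv.Perm.mul_apply, Equiv.Perm.mul_apply,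
        map_inv, ← map_inv, x24_inv (by norm_num), (stab24 _).2 gen24_x.first_mem, rho24_val (by norm_num), h]
      have hs := small_acts
      simp only [Bool.and_eq_true] at hs
      exact Nat.eq_of_beq_eq_true hs.1

theorem pair_moves : (!Nat.beq (tw fi24c.net [2, 0] 1) 1 && !Nat.beq (tw fi24c.net [2, 0] 2) 2) = true := by
  decide +kernel

/-- Only the identity centralises the even elements. -/
theorem conjNormal_injective : Function.Injective θ24 := by
  rw [← MonoidHom.ker_eq_bot_iff, eq_bot_iff]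
  intro n hn
  have hc : ∀ c ∈ C24, Commute n c := fun c hc => by
    have := congrArg Subtype.val (congrArg (fun f : MulAut ↥C24 => f ⟨c, hc⟩) (MonoidHom.mem_ker.1 hn))
    rw [θ24_apply, MulAut.one_apply] at this
    exact mul_inv_eq_iff_eq_mul.1 this
  have hfix : ∀ h ∈ H23, rho24 h (rho24 n p24) = rho24 n p24 := fun h hh => by
    rw [← Equiv.Perm.mul_apply, ← map_mul, ← (hc h (mem_C24.2 (mem_H23.1 hh).2)).eq, map_mul, Equiv.Perm.mul_apply,
      (stab24 _).2 (mem_H23.1 hh).1]
  have hp : rho24 n p24 = p24 := by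
    have hb := fixed_bit (q := rho24 n p24) fixed_all (pairWords_lt (by norm_num) (by decide)) fun w hw => by
      obtain ⟨i, hi, rfl⟩ := mem_pairWords hw
      obtain ⟨h4, hi'⟩ : 4 ≤ i ∧ i < 12 := by revert i; decide
      rw [ev_two]
      exact hfix _ (pair_mem_H23 hi' (by norm_num) (by omega) (by norm_num))
    have hlt := lt_of_bit (n := 3) (by norm_num) hb
    have h20 := congrArg Fin.val (hfix (ev x24 [2, 0]) (by
      rw [ev_two]; exact pair_mem_H23 (by norm_num) (by norm_num) (by norm_num) (by norm_num)))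
    rw [rho24_word [2, 0] (by simp)] at h20
    have hm := pair_moves
    simp only [Bool.and_eq_true, Bool.not_eq_true'] at hm
    refine Fin.ext ?_
    show (rho24 n p24 : ℕ) = 0
    generalize (rho24 n p24 : ℕ) = j at hlt h20
    interval_cases j
    · rfl
    · rw [h20, Nat.beq_refl] at hm; exact absurd hm.1 (by decide)
    · rw [h20, Nat.beq_refl] at hm; exact absurd hm.2 (by decide)
  have hall : ∀ u, Commute n (u * x24 0 * u⁻¹) := fun u => by
    refine commute_iff_fix.2 ?_
    obtain ⟨m, hm, e⟩ := exists_even_map (rho24 u p24)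
    rw [← e, ← Equiv.Perm.mul_apply, ← map_mul, (hc m hm).eq, map_mul, Equiv.Perm.mul_apply, hp]
  have hcen : n ∈ Subgroup.center G24 := by
    rw [Subgroup.mem_center_iff]
    intro y
    have hy : y ∈ Subgroup.closure (x24 '' {a | a < 12}) := by rw [gens24]; trivial
    suffices Commute n y from this.eq.symm
    induction hy using Subgroup.closure_induction with
    | mem x hx =>
      obtain ⟨a, ha, rfl⟩ := hx
      obtain ⟨u, hu⟩ := isConj_iff.1 (show IsConj (x24 0) (x24 a) from act24.el_class ha)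
      exact hu ▸ hall u
    | one => exact Commute.one_right _
    | mul x y _ _ a b => exact a.mul_right b
    | inv x _ a => exact a.inv_right
  rwa [act24.center_eq_bot] at hcen

/-- The outer automorphism group has order two. -/
theorem card_out_C24 : Nat.card (Cfsg.Out ↥C24) = 2 := by
  haveI : Finite G24 := finite_G24
  let θ : G24 →* MulAut ↥C24 := θ24
  let f : G24 →* Cfsg.Out ↥C24 := (QuotientGroup.mk' (Cfsg.Inn ↥C24)).comp θ
  have hsurj : Function.Surjective f := (QuotientGroup.mk'_surjective _).comp exists_conj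
  have hconj : ∀ c : ↥C24, θ (c : G24) = MulAut.conj c := fun c =>
    MulEquiv.ext fun h => Subtype.ext (by rw [θ24_apply]; rfl)
  have hker : f.ker = C24 := by
    ext n
    rw [MonoidHom.mem_ker]
    constructor
    · intro h
      obtain ⟨c, hc⟩ := (QuotientGroup.eq_one_iff (N := Cfsg.Inn ↥C24) (θ n)).1 h
      rw [← hconj] at hc
      exact conjNormal_injective hc ▸ c.2
    · intro h
      exact (QuotientGroup.eq_one_iff (N := Cfsg.Inn ↥C24) (θ n)).2 ⟨⟨n, h⟩, (hconj _).symm⟩
  have hidx := Subgroup.index_ker f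
  rw [hker, MonoidHom.range_eq_top.2 hsurj, Subgroup.card_top] at hidx
  rw [← hidx]
  have h := Subgroup.card_mul_index C24
  rw [card_commutator, card_G24] at h
  generalize C24.index = k at h ⊢
  omega

end Cfsg.Agent.FiTwentyFour
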